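import Cfsg.Agent.Lib.SuzukiKernel.Rows
import Cfsg.Agent.Lib.Char.Kernel

/-!
The kernel does not have order the cube of the number of its central elements of order at most two.
-/

set_option autoImplicit false
set_option linter.style.haveILetI false

namespace Cfsg.Agent.Lib.SuzukiKernel

open MulAction Cfsg.Agent.Lib.Char

universe u v

/-- A family of `e + 1`-sets meeting pairwise in `e` elements has a common `e`-set or lies in an
`e + 2`-set. -/
theorem inter_family {α : Type*} [DecidableEq α] {F : Finset (Finset α)} {e : ℕ} (he : 1 ≤ e)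
    (hc : ∀ S ∈ F, S.card = e + 1) (hi : ∀ S ∈ F, ∀ T ∈ F, S ≠ T → (S ∩ T).card = e)
    {S₁ S₂ : Finset α} (h₁ : S₁ ∈ F) (h₂ : S₂ ∈ F) (h12 : S₁ ≠ S₂) :
    (∀ S ∈ F, S₁ ∩ S₂ ⊆ S) ∨ ∀ S ∈ F, S ⊆ S₁ ∪ S₂ := by
  have hK := hi S₁ h₁ S₂ h₂ h12
  have dich : ∀ S ∈ F, S₁ ∩ S₂ ⊆ S ∨ S ⊆ S₁ ∪ S₂ := by
    intro S hS
    by_contra hno
    push Not at hno
    obtain ⟨hA, hB⟩ := hno
    obtain ⟨k, hk, hkS⟩ := Finset.not_subset.mp hA
    obtain ⟨hk1, hk2⟩ := Finset.mem_inter.mp hk
    obtain ⟨x, hxS, hx⟩ := Finset.not_subset.mp hB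
    have sub : ∀ T ∈ F, k ∈ T → T.erase k ⊆ S := fun T hT hkT y hy => by
      have hne : S ≠ T := fun e => hkS (e ▸ hkT)
      have hle : S ∩ T ⊆ T.erase k := fun z hz =>
        Finset.mem_erase.mpr ⟨fun e => hkS (e ▸ (Finset.mem_inter.mp hz).1), (Finset.mem_inter.mp hz).2⟩
      have := Finset.eq_of_subset_of_card_le hle (by
        rw [Finset.card_erase_of_mem hkT, hc T hT, hi S hS T hT hne]; omega)
      exact (Finset.mem_inter.mp (this ▸ hy)).1
    have hall : (S₁ ∪ S₂).erase k ⊆ S := by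
      rw [Finset.erase_union_distrib]
      exact Finset.union_subset (sub S₁ h₁ hk1) (sub S₂ h₂ hk2)
    have hcard := Finset.card_union_add_card_inter S₁ S₂
    rw [hK, hc S₁ h₁, hc S₂ h₂] at hcard
    have := Finset.eq_of_subset_of_card_le hall (by
      rw [hc S hS, Finset.card_erase_of_mem (Finset.mem_union_left _ hk1)]; omega)
    exact hx (Finset.erase_subset _ _ (this.symm ▸ hxS))
  by_contra hno
  push Not at hno
  obtain ⟨⟨S, hS, hSK⟩, T, hT, hTP⟩ := hno
  have hSP := (dich S hS).resolve_left hSK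
  have hTK := (dich T hT).resolve_right hTP
  obtain ⟨k, hk, hkS⟩ := Finset.not_subset.mp hSK
  obtain ⟨x, hxT, hx⟩ := Finset.not_subset.mp hTP
  have hne : S ≠ T := fun e => hSK (e ▸ hTK)
  have hTeq : insert x (S₁ ∩ S₂) = T := Finset.eq_of_subset_of_card_le
    (Finset.insert_subset hxT hTK) (by
      rw [Finset.card_insert_of_notMem (fun h => hx (Finset.mem_union_left _ (Finset.mem_inter.mp h).1)),
        hK, hc T hT])
  have hle : S ∩ T ⊆ (S₁ ∩ S₂).erase k := fun y hy => by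
    obtain ⟨hyS, hyT⟩ := Finset.mem_inter.mp hy
    rw [← hTeq, Finset.mem_insert] at hyT
    refine Finset.mem_erase.mpr ⟨fun e => hkS (e ▸ hyS), hyT.resolve_left ?_⟩
    rintro rfl; exact hx (hSP hyS)
  have := Finset.card_le_card hle
  rw [hi S hS T hT hne, Finset.card_erase_of_mem hk, hK] at this
  omega

variable {G : Type u} {Ω : Type v} [Group G] [MulAction G Ω] [Fintype G] [Finite Ω] [IsSimpleGroup G]
variable {U : Subgroup G} {a b : Ω} [Fintype U] [Fintype ↥(stabilizer G a ⊓ stabilizer G b)]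

/-- A character with trivial nonlinear part over the kernel meets no nontrivial linear character. -/
theorem exists_nonlin (h : Ker U a b) {χ : IrrCharacter G} {θ₁ : IrrCharacter U} (hne : θ₁ ≠ triv)
    (hχ : mult U χ θ₁ ≠ 0) :
    ∃ θ : IrrCharacter U, charDegree (θ : U → ℂ) ≠ 1 ∧ mult U χ θ ≠ 0 := by
  classical
  by_contra hno
  push Not at hno
  obtain ⟨n, hn, -, hO, -, -, -, -⟩ := h.structure_facts
  haveI : Nontrivial (SuzukiTwo.Omega U) := Finite.one_lt_card_iff_nontrivial.mp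
    (hO ▸ Nat.one_lt_two_pow (by omega))
  obtain ⟨⟨x, hx⟩, hx1⟩ := exists_ne (1 : SuzukiTwo.Omega U)
  have hker : (χ : G → ℂ) x = (χ : G → ℂ) 1 := by
    have e1 := restrict_eq U χ x
    have e2 := restrict_eq U χ 1
    rw [OneMemClass.coe_one] at e2
    rw [e1, e2]
    refine Finset.sum_congr rfl fun θ _ => ?_
    by_cases hd : charDegree (θ : U → ℂ) = 1
    · rw [lin_apply_omega h hd hx, lin_apply_omega h hd (one_mem _)]
    · rw [hno θ hd, Nat.cast_zero, zero_mul, zero_mul]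
  have hc := isCharacter_of_isIrr χ.2
  have hall : ∀ g : G, (χ : G → ℂ) g = (χ : G → ℂ) 1 := by
    intro g
    rcases (charKer_normal hc).eq_bot_or_eq_top with e | e
    · have : (x : G) ∈ charKer (χ : G → ℂ) := (mem_charKer hc).mpr hker
      rw [e, Subgroup.mem_bot] at this
      exact absurd (Subtype.ext (Subtype.ext this)) hx1
    · exact (mem_charKer hc).mp (e ▸ Subgroup.mem_top g)
  have e := mult_spec U χ θ₁
  rw [show (fun u : U => (χ : G → ℂ) u) = (χ : G → ℂ) 1 • ((triv : IrrCharacter U) : U → ℂ) from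
    funext fun u => by simp [hall u, triv], classInner_smul_left,
    classInner_irr_ne triv.2 θ₁.2 (fun e => hne (Subtype.ext e).symm), mul_zero] at e
  exact hχ (by exact_mod_cast e.symm)

theorem not_cube (h : Ker U a b)
    (hcube : Nat.card U = (Nat.card ↥(stabilizer G a ⊓ stabilizer G b) + 1) ^ 3) : False := by
  classical
  obtain ⟨n, hn, hn2, -, -, -, -, -⟩ := h.structure_facts
  set e := Nat.card ↥(stabilizer G a ⊓ stabilizer G b) with hedef
  have h4 : 4 ≤ 2 ^ n := le_trans (by norm_num) (Nat.pow_le_pow_right (by norm_num) hn)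
  have he3 : 3 ≤ e := by omega
  have hL : (linChars U).card = (e + 1) ^ 2 := by
    have := card_linChars h
    rw [← hedef, hcube, pow_succ (e + 1) 2] at this
    exact Nat.eq_of_mul_eq_mul_right (by omega) this
  set L := (linChars U).erase triv with hLdef
  have hmemL : ∀ {θ}, θ ∈ L ↔ θ ≠ triv ∧ charDegree (θ : U → ℂ) = 1 := by
    intro θ; rw [hLdef, Finset.mem_erase, mem_linChars]
  have hLcard : L.card = (e + 2) * e := by
    rw [hLdef, Finset.card_erase_of_mem (mem_linChars.mpr deg_triv), hL,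
      show (e + 1) ^ 2 = (e + 2) * e + 1 by ring, Nat.add_sub_cancel]
  set F := L.image (supp (G := G)) with hFdef
  have hfib : ∀ S ∈ F, (L.filter fun θ => supp θ = S).card = e := by
    intro S hS
    obtain ⟨θ, hθ, rfl⟩ := Finset.mem_image.mp hS
    obtain ⟨hne, hd⟩ := hmemL.mp hθ
    rw [hedef, Nat.card_eq_fintype_card, ← Finset.card_univ,
      ← Finset.card_image_of_injective Finset.univ (fun x y => tw_inj h.kernel h.zass hne (g := x) (k := y))]
    congr 1
    ext θ'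
    simp only [Finset.mem_filter, Finset.mem_image, Finset.mem_univ, true_and]
    constructor
    · rintro ⟨hθ', hs⟩
      by_contra hno
      push Not at hno
      obtain ⟨hne', hd'⟩ := hmemL.mp hθ'
      have := inter_supp h hd' hne' hd hne (fun d => hno d)
      rw [hs, Finset.inter_self, (lin_row h hd hne).2] at this
      omega
    · rintro ⟨d, rfl⟩
      refine ⟨hmemL.mpr ⟨fun e => hne ?_, by rw [deg_tw, hd]⟩, supp_tw h d θ⟩
      have := congrArg (tw h.kernel d⁻¹) e
      rwa [tw_tw, inv_mul_cancel, tw_one, tw_triv] at this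
  have hFcard : F.card = e + 2 := by
    have := Finset.card_eq_sum_card_image (supp (G := G)) L
    rw [← hFdef, Finset.sum_congr rfl hfib, Finset.sum_const, smul_eq_mul, hLcard] at this
    exact (Nat.eq_of_mul_eq_mul_right (by omega) this).symm
  have hrow : ∀ S ∈ F, (∀ χ ∈ S, fs χ = 1) ∧ S.card = e + 1 ∧
      ∑ χ ∈ S, mult U χ triv = e ∧ ∀ θ : IrrCharacter U, charDegree (θ : U → ℂ) ≠ 1 →
        ∑ χ ∈ S, mult U χ θ = e * charDegree (θ : U → ℂ) := by
    intro S hS
    obtain ⟨θ, hθ, rfl⟩ := Finset.mem_image.mp hS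
    obtain ⟨hne, hd⟩ := hmemL.mp hθ
    refine ⟨fun χ hχ => ((lin_row h hd hne).1 χ hχ).2, (lin_row h hd hne).2, ?_, fun θ' hθ' => ?_⟩
    · rw [← sum_lin_mul h hd hne fun χ => mult U χ triv, gram_triv h.kernel h.zass hne, hd, mul_one]
    · rw [← sum_lin_mul h hd hne fun χ => mult U χ θ',
        gram_not_conj h.kernel h.zass (fun d e => hθ' (by rw [← deg_tw h.kernel d, e, hd])), hd,
        mul_one]
  have hpair : ∀ S ∈ F, ∀ T ∈ F, S ≠ T → (S ∩ T).card = e := by
    intro S hS T hT hST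
    obtain ⟨θ, hθ, rfl⟩ := Finset.mem_image.mp hS
    obtain ⟨θ', hθ', rfl⟩ := Finset.mem_image.mp hT
    obtain ⟨hne, hd⟩ := hmemL.mp hθ
    obtain ⟨hne', hd'⟩ := hmemL.mp hθ'
    exact inter_supp h hd hne hd' hne' fun d e => hST (by rw [← e, supp_tw h])
  obtain ⟨S₁, h₁, S₂, h₂, h12⟩ := Finset.one_lt_card.mp (show 1 < F.card by omega)
  have hKc := hpair S₁ h₁ S₂ h₂ h12
  rcases inter_family (by omega) (fun S hS => (hrow S hS).2.1) hpair h₁ h₂ h12 with hcase | hcase
  swap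
  · set P := S₁ ∪ S₂ with hPdef
    have hP : P.card = e + 2 := by
      have := Finset.card_union_add_card_inter S₁ S₂
      rw [hKc, (hrow S₁ h₁).2.1, (hrow S₂ h₂).2.1] at this
      rw [hPdef]; omega
    have hsub : F ⊆ P.image P.erase := by
      intro S hS
      obtain ⟨x, hx⟩ := Finset.card_eq_one.mp (show (P \ S).card = 1 by
        rw [Finset.card_sdiff_of_subset (hcase S hS), hP, (hrow S hS).2.1]; omega)
      have hxP : x ∈ P \ S := hx ▸ Finset.mem_singleton_self x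
      refine Finset.mem_image.mpr ⟨x, (Finset.mem_sdiff.mp hxP).1, ?_⟩
      symm
      refine Finset.eq_of_subset_of_card_le (fun y hy => Finset.mem_erase.mpr
        ⟨fun e => (Finset.mem_sdiff.mp hxP).2 (e ▸ hy), hcase S hS hy⟩) ?_
      rw [Finset.card_erase_of_mem (Finset.mem_sdiff.mp hxP).1, hP, (hrow S hS).2.1]; omega
    have heq := Finset.eq_of_subset_of_card_le hsub (by
      rw [hFcard]; exact le_trans Finset.card_image_le hP.le)
    have hT : ∀ x ∈ P, mult U x triv + e = ∑ χ ∈ P, mult U χ triv := fun x hx => by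
      rw [← Finset.add_sum_erase P _ hx,
        (hrow _ (by rw [heq]; exact Finset.mem_image_of_mem _ hx)).2.2.1]
    obtain ⟨x₀, hx₀⟩ := Finset.card_pos.mp (show 0 < P.card by omega)
    have hsum : ∑ χ ∈ P, mult U χ triv = (e + 2) * mult U x₀ triv := by
      rw [← hP, ← smul_eq_mul, ← Finset.sum_const]
      exact Finset.sum_congr rfl fun x hx => by have := hT x hx; have := hT x₀ hx₀; omega
    have := hT x₀ hx₀
    rw [hsum] at this
    rcases Nat.eq_zero_or_pos (mult U x₀ triv) with e0 | e0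
    · rw [e0] at this; omega
    · nlinarith
  set K := S₁ ∩ S₂ with hKdef
  have hext : ∀ S : F, ∃ x, x ∉ K ∧ insert x K = (S : Finset (IrrCharacter G)) := by
    rintro ⟨S, hS⟩
    obtain ⟨x, hx⟩ := Finset.card_eq_one.mp (show (S \ K).card = 1 by
      rw [Finset.card_sdiff_of_subset (hcase S hS), hKc, (hrow S hS).2.1]; omega)
    have hxS : x ∈ S \ K := hx ▸ Finset.mem_singleton_self x
    refine ⟨x, (Finset.mem_sdiff.mp hxS).2, Finset.eq_of_subset_of_card_le
      (Finset.insert_subset (Finset.mem_sdiff.mp hxS).1 (hcase S hS)) ?_⟩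
    rw [Finset.card_insert_of_notMem (Finset.mem_sdiff.mp hxS).2, hKc]
    exact ((hrow S hS).2.1).le
  choose p hpK hp using hext
  set P := Finset.univ.image p with hPdef
  have hPc : P.card = e + 2 := by
    rw [hPdef, Finset.card_image_of_injective _ (fun S T e => Subtype.ext (by rw [← hp S, ← hp T, e])),
      Finset.card_univ, Fintype.card_coe, hFcard]
  have hdisj : Disjoint K P := Finset.disjoint_right.mpr fun x hx => by
    obtain ⟨S, -, rfl⟩ := Finset.mem_image.mp hx; exact hpK S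
  obtain ⟨θ₁, hθ₁, hS₁⟩ := Finset.mem_image.mp h₁
  obtain ⟨hne₁, -⟩ := hmemL.mp hθ₁
  have hp1 : p ⟨S₁, h₁⟩ ∈ supp θ₁ := by rw [hS₁]; exact (hp ⟨S₁, h₁⟩).subset (Finset.mem_insert_self _ _)
  obtain ⟨θ, hθ, hθp⟩ := exists_nonlin h hne₁ (mem_supp.mp hp1)
  set z := charDegree (θ : U → ℂ) with hz
  have hθne : θ ≠ triv := fun e => hθ (by rw [hz, e, deg_triv])
  set β := mult U (p ⟨S₁, h₁⟩) θ with hβ
  set B := ∑ χ ∈ K, mult U χ θ with hB
  have hS : ∀ S : F, mult U (p S) θ + B = e * z := fun S => by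
    rw [hB, ← Finset.sum_insert (f := fun χ => mult U χ θ) (hpK S), hp S]; exact (hrow S S.2).2.2.2 θ hθ
  have hPβ : ∀ x ∈ P, mult U x θ = β := by
    intro x hx
    obtain ⟨S, -, rfl⟩ := Finset.mem_image.mp hx
    have := hS S; have := hS ⟨S₁, h₁⟩; omega
  have hrest : ∀ (f : IrrCharacter G → ℤ), ∑ χ, f χ =
      ∑ χ ∈ K, f χ + ∑ χ ∈ P, f χ + ∑ χ ∈ (K ∪ P)ᶜ, f χ := fun f => by
    rw [← Finset.sum_union hdisj, Finset.sum_add_sum_compl]
  have g1 : ∑ χ : IrrCharacter G, (mult U χ θ : ℤ) ^ 2 = 1 + e * z ^ 2 := by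
    have := gram_conj h.kernel h.zass hθne 1
    rw [tw_one, ← hz, ← hedef] at this
    simp only [pow_two, ← mul_assoc]
    exact_mod_cast this
  have hP2 : ∑ χ ∈ P, (mult U χ θ : ℤ) ^ 2 = (e + 2) * (β : ℤ) ^ 2 := by
    rw [Finset.sum_congr rfl fun x hx => by rw [hPβ x hx], Finset.sum_const, hPc]
    simp
  have hcauchy : (B : ℤ) ^ 2 ≤ e * ∑ χ ∈ K, (mult U χ θ : ℤ) ^ 2 := by
    have := sq_sum_le_card_mul_sum_sq (s := K) (f := fun χ => (mult U χ θ : ℤ))
    rw [hKc] at this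
    rw [hB]; push_cast; exact this
  have hR0 : 0 ≤ ∑ χ ∈ (K ∪ P)ᶜ, (mult U χ θ : ℤ) ^ 2 := Finset.sum_nonneg fun _ _ => sq_nonneg _
  have hBz : (B : ℤ) = e * z - β := by
    have := hS ⟨S₁, h₁⟩
    rw [← hβ] at this
    have : ((β + B : ℕ) : ℤ) = ((e * z : ℕ) : ℤ) := by rw [this]
    push_cast at this; linarith
  rw [hrest, hP2] at g1
  have hβ1 : 1 ≤ β := Nat.pos_of_ne_zero hθp
  have horb : Finset.univ.image (fun d => tw h.kernel d θ) ⊆ (linChars U)ᶜ := by
    intro x hx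
    obtain ⟨d, -, rfl⟩ := Finset.mem_image.mp hx
    rw [Finset.mem_compl, mem_linChars, deg_tw]; exact hθ
  have horbc : (Finset.univ.image fun d => tw h.kernel d θ).card = e := by
    rw [Finset.card_image_of_injective _ (fun x y => tw_inj h.kernel h.zass hθne (g := x) (k := y)),
      Finset.card_univ, hedef, Nat.card_eq_fintype_card]
  have hsq := sum_deg_sq_nonlin h
  rw [hL, hcube, ← Finset.sum_sdiff horb] at hsq
  have horbs : ∑ x ∈ Finset.univ.image (fun d => tw h.kernel d θ), charDegree (x : U → ℂ) ^ 2 =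
      e * z ^ 2 := by
    rw [Finset.sum_congr rfl (g := fun _ => z ^ 2) fun x hx => by
      obtain ⟨d, -, rfl⟩ := Finset.mem_image.mp hx; rw [deg_tw], Finset.sum_const, horbc, smul_eq_mul]
  rw [horbs, show (e + 1) ^ 3 = e * (e + 1) ^ 2 + (e + 1) ^ 2 by ring, Nat.add_right_cancel_iff] at hsq
  have hzq : z ≤ e + 1 := by
    have : e * z ^ 2 ≤ e * (e + 1) ^ 2 := hsq ▸ Nat.le_add_left _ _
    exact (Nat.pow_le_pow_iff_left (by norm_num)).mp (Nat.le_of_mul_le_mul_left this (by omega))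
  have hqz : (e + 1) * β < 2 * z := by
    by_contra hno
    push Not at hno
    have key : ((e : ℤ) + 1) ^ 2 * (β : ℤ) ^ 2 - 2 * e * z * β ≤ e := by
      have hR' := mul_nonneg (Int.natCast_nonneg e) hR0
      nlinarith
    have hno' : 2 * (z : ℤ) ≤ ((e : ℤ) + 1) * β := by exact_mod_cast hno
    have h2 : 2 * (e : ℤ) * z * β ≤ e * (((e : ℤ) + 1) * β) * β := by
      nlinarith [mul_le_mul_of_nonneg_left hno' (mul_nonneg (Int.natCast_nonneg e) (Int.natCast_nonneg β))]
    have h3 : (1 : ℤ) ≤ (β : ℤ) ^ 2 := one_le_pow₀ (by exact_mod_cast hβ1)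
    have h4 : ((e : ℤ) + 1) * 1 ≤ ((e : ℤ) + 1) * (β : ℤ) ^ 2 :=
      mul_le_mul_of_nonneg_left h3 (by positivity)
    nlinarith
  have hβe : β = 1 := by
    by_contra hne
    have : (e + 1) * 2 ≤ (e + 1) * β := Nat.mul_le_mul_left _ (by omega)
    omega
  have hzeq : z = e + 1 := by
    obtain ⟨m, hm1, hm⟩ := h.exists_pow_two
    obtain ⟨k, -, hk⟩ := (Nat.dvd_prime_pow Nat.prime_two).mp
      (hm ▸ charDegree_dvd_card θ.2 : z ∣ 2 ^ m)
    rw [hβe, mul_one, hn2, hk] at hqz
    rw [hn2, hk] at hzq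
    rw [hn2, hk]
    have h1 : n < k + 1 := (Nat.pow_lt_pow_iff_right (a := 2) (by norm_num)).mp (by rw [pow_succ]; omega)
    have h2 : k ≤ n := (Nat.pow_le_pow_iff_right (by norm_num)).mp hzq
    rw [show k = n by omega]
  have hall : (Finset.univ.image fun d => tw h.kernel d θ) = (linChars U)ᶜ := by
    refine Finset.Subset.antisymm horb fun x hx => ?_
    by_contra hxo
    rw [hzeq] at hsq
    have hs : ∑ x ∈ (linChars U)ᶜ \ Finset.univ.image (fun d => tw h.kernel d θ),
        charDegree (x : U → ℂ) ^ 2 = 0 := by omega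
    have := Finset.sum_eq_zero_iff.mp hs x (Finset.mem_sdiff.mpr ⟨hx, hxo⟩)
    have := charDegree_pos x.2
    simp at *
    omega
  have hν : fs θ = -1 := by
    have := sum_fs_nonlin h
    rw [hL, ← hall, Finset.sum_congr rfl (g := fun _ => fs θ * (z : ℤ)) fun x hx => by
      obtain ⟨d, -, rfl⟩ := Finset.mem_image.mp hx; rw [fs_tw, deg_tw], Finset.sum_const, horbc,
      nsmul_eq_mul, hzeq] at this
    push_cast at this
    have h0 : (fs θ + 1) * ((e : ℤ) * (e + 1)) = 0 := by nlinarith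
    have : (e : ℤ) * (e + 1) ≠ 0 := by positivity
    have := (mul_eq_zero.mp h0).resolve_right this
    omega
  have g2 := fs_count h θ
  rw [hν, ← hz, ← hedef, hrest] at g2
  have hfsK : ∑ χ ∈ K, fs χ * (mult U χ θ : ℤ) = B := by
    rw [hB, Nat.cast_sum]
    exact Finset.sum_congr rfl fun χ hχ => by
      rw [(hrow S₁ h₁).1 χ (Finset.mem_inter.mp hχ).1, one_mul]
  have hfsP : ∑ χ ∈ P, fs χ * (mult U χ θ : ℤ) = e + 2 := by
    rw [Finset.sum_congr rfl (g := fun _ => (1 : ℤ)) fun x hx => ?_, Finset.sum_const, hPc]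
    · simp
    rw [hPβ x hx, hβe]
    obtain ⟨S, -, rfl⟩ := Finset.mem_image.mp hx
    rw [(hrow S S.2).1 (p S) ((hp S).subset (Finset.mem_insert_self _ _))]; rfl
  rw [hfsK, hfsP, hBz, hβe, hzeq] at g2
  push_cast at g2
  have hlow : -∑ χ ∈ (K ∪ P)ᶜ, fs χ * (mult U χ θ : ℤ) ≤ ∑ χ ∈ (K ∪ P)ᶜ, (mult U χ θ : ℤ) ^ 2 := by
    rw [← Finset.sum_neg_distrib]
    refine Finset.sum_le_sum fun χ _ => ?_
    have := (fs_bounds χ).1
    rcases Nat.eq_zero_or_pos (mult U χ θ) with e | e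
    · simp [e]
    · nlinarith
  rw [hBz, hβe, hzeq] at hcauchy
  rw [hzeq, hβe] at g1
  push_cast at g1 hcauchy
  nlinarith [mul_le_mul_of_nonneg_left hlow (Int.natCast_nonneg e)]

end Cfsg.Agent.Lib.SuzukiKernel
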