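import Cfsg.Agent.Lib.SuzukiKernel.Rows
import Cfsg.Agent.S0881

/-!
The characters induced from the linear characters of a point stabiliser.
-/

set_option autoImplicit false
set_option linter.style.haveILetI false

open scoped ComplexConjugate

namespace Cfsg.Agent.Lib.SuzukiKernel

open MulAction Cfsg.Agent.Lib.Char Cfsg.Agent.Lib.Zass

universe u v

variable {G : Type u} {Ω : Type v} [Group G] [MulAction G Ω] [Fintype G] [Finite Ω] [IsSimpleGroup G]
variable {U : Subgroup G} {a b : Ω} [Fintype U] [Fintype ↥(stabilizer G a ⊓ stabilizer G b)]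

/-- There are `(|D| + 1) / 2` characters lying over every nontrivial linear character of the kernel whose
multiplicity of a character of the kernel is its degree; they carry all the fixed vectors. On elements without
conjugate in the point stabiliser one of them takes the value `-1`, the others `0`. -/
theorem induced_rows (hK : IsKernel U a b) (hZ : IsZassenhausGroup G Ω)
    (hcyc : IsCyclic ↥(stabilizer G a ⊓ stabilizer G b))
    (hodd : Odd (Nat.card ↥(stabilizer G a ⊓ stabilizer G b)))
    (hlt : Nat.card ↥(stabilizer G a ⊓ stabilizer G b) + 1 < Nat.card U) :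
    ∃ P : Finset (IrrCharacter G),
      2 * P.card = Nat.card ↥(stabilizer G a ⊓ stabilizer G b) + 1 ∧
      (∀ χ ∈ P, ∀ θ : IrrCharacter U, θ ≠ triv → mult U χ θ = charDegree (θ : U → ℂ)) ∧
      ∑ χ ∈ P, mult U χ triv = Nat.card ↥(stabilizer G a ⊓ stabilizer G b) ∧
      ∃ st ∈ P, ∀ g : G, (∀ x : G, x⁻¹ * g * x ∉ stabilizer G a) →
        (st : G → ℂ) g = -1 ∧ ∀ χ ∈ P, χ ≠ st → (χ : G → ℂ) g = 0 := by
  classical
  haveI := hK.normal
  haveI : Fintype (stabilizer G a) := Fintype.ofFinite _
  set e := Nat.card ↥(stabilizer G a ⊓ stabilizer G b) with hedef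
  set N := stabilizer G a
  set A := U.subgroupOf N with hA
  haveI : IsMulCommutative (N ⧸ A) := by
    refine ⟨⟨fun x y => QuotientGroup.induction_on x fun x => QuotientGroup.induction_on y fun y => ?_⟩⟩
    obtain ⟨u, d, hx⟩ := decomp hK x.2
    obtain ⟨w, k, hy⟩ := decomp hK y.2
    have ex : (x : N ⧸ A) = ((⟨(d : G), d.2.1⟩ : N) : N ⧸ A) := by
      rw [show x = ⟨(u : G), hK.le u.2⟩ * ⟨(d : G), d.2.1⟩ from Subtype.ext hx, QuotientGroup.mk_mul,
        (QuotientGroup.eq_one_iff (⟨(u : G), hK.le u.2⟩ : N)).mpr (show (u : G) ∈ U from u.2), one_mul]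
    have ey : (y : N ⧸ A) = ((⟨(k : G), k.2.1⟩ : N) : N ⧸ A) := by
      rw [show y = ⟨(w : G), hK.le w.2⟩ * ⟨(k : G), k.2.1⟩ from Subtype.ext hy, QuotientGroup.mk_mul,
        (QuotientGroup.eq_one_iff (⟨(w : G), hK.le w.2⟩ : N)).mpr (show (w : G) ∈ U from w.2), one_mul]
    rw [ex, ey, ← QuotientGroup.mk_mul, ← QuotientGroup.mk_mul]
    congr 1
    letI : CommGroup ↥(stabilizer G a ⊓ stabilizer G b) := @IsCyclic.commGroup _ _ hcyc
    exact Subtype.ext (congrArg Subtype.val (mul_comm d k) :)
  haveI : Finite (N ⧸ A →* ℂˣ) := by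
    letI : CommGroup (N ⧸ A) :=
      { (inferInstance : Group (N ⧸ A)) with mul_comm := fun a b => IsMulCommutative.is_comm.comm a b }
    haveI : NeZero (Monoid.exponent (N ⧸ A)) := ⟨Monoid.exponent_ne_zero_of_finite⟩
    haveI : NeZero (Monoid.exponent (N ⧸ A) : ℂ) := NeZero.charZero
    refine Nat.finite_of_card_ne_zero ?_
    rw [CommGroup.card_monoidHom_of_hasEnoughRootsOfUnity]
    exact Nat.card_pos.ne'
  haveI : Fintype (N ⧸ A →* ℂˣ) := Fintype.ofFinite _
  have hcN : Nat.card N = Nat.card U * e := by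
    rw [ZassFrob.card_stab hZ hK.ne, ← hK.card_eq, Nat.add_sub_cancel]
  have hAc : Nat.card A = Nat.card U := Nat.card_congr (Subgroup.subgroupOfEquivOfLe hK.le).toEquiv
  have hAi : A.index = e := by
    have := Subgroup.card_mul_index A
    rw [hAc, hcN] at this
    exact Nat.eq_of_mul_eq_mul_left Nat.card_pos this
  have hcm : Fintype.card (N ⧸ A →* ℂˣ) = e := by
    letI : CommGroup (N ⧸ A) :=
      { (inferInstance : Group (N ⧸ A)) with mul_comm := fun a b => IsMulCommutative.is_comm.comm a b }
    haveI : NeZero (Monoid.exponent (N ⧸ A)) := ⟨Monoid.exponent_ne_zero_of_finite⟩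
    haveI : NeZero (Monoid.exponent (N ⧸ A) : ℂ) := NeZero.charZero
    rw [← Nat.card_eq_fintype_card, CommGroup.card_monoidHom_of_hasEnoughRootsOfUnity]
    exact hAi
  let lam : (N ⧸ A →* ℂˣ) → IrrCharacter N := fun m =>
    ⟨fun g => (m (g : N ⧸ A) : ℂ), isIrrCharacter_linear (m.comp (QuotientGroup.mk' A))⟩
  have hlam : ∀ m (g : N), (g : G) ∈ U → (lam m : N → ℂ) g = 1 := fun m g hg => by
    show (m (g : N ⧸ A) : ℂ) = 1
    rw [(QuotientGroup.eq_one_iff g).mpr hg, map_one, Units.val_one]
  -- the fixed vectors are the sum of the multiplicities of the linear characters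
  have hT : ∀ χ : IrrCharacter G, ∑ m, mult N χ (lam m) = mult U χ triv := by
    intro χ
    have e1 : ∑ m, (mult N χ (lam m) : ℂ) = (mult U χ triv : ℂ) := by
      simp only [← mult_spec, classInner, ← Finset.mul_sum]
      rw [Finset.sum_comm]
      simp only [← Finset.mul_sum, ← map_sum]
      rw [Finset.sum_congr rfl fun (g : N) _ => by
        rw [show ∑ m, (lam m : N → ℂ) g = if g ∈ A then (A.index : ℂ) else 0 from sum_hom_quot A g]]
      have hsum : ∑ g : N, (χ : G → ℂ) g * conj (if g ∈ A then (A.index : ℂ) else 0) =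
          ∑ u : U, (χ : G → ℂ) u * (e : ℂ) := by
        refine (Fintype.sum_of_injective (fun u : U => (⟨u, hK.le u.2⟩ : N))
          (fun u w e => Subtype.ext (congrArg (fun x : N => (x : G)) e :)) _ _ (fun g hg => ?_) fun u => ?_).symm
        · rw [if_neg (show g ∉ A from fun hgA => hg ⟨⟨g, hgA⟩, rfl⟩), map_zero, mul_zero]
        · rw [if_pos (show (⟨u, hK.le u.2⟩ : N) ∈ A from u.2), map_natCast, hAi]
      rw [hsum, ← Finset.sum_mul, hcN]
      have he : (e : ℂ) ≠ 0 := Nat.cast_ne_zero.mpr Nat.card_pos.ne'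
      have hU : (Nat.card U : ℂ) ≠ 0 := card_ne_zero_complex U
      simp only [triv, map_one, mul_one, Nat.cast_mul]
      field_simp
    exact_mod_cast e1
  -- restriction to the kernel
  have hres : ∀ m (u : U), indFun N (lam m : N → ℂ) u =
      ((triv : IrrCharacter U) : U → ℂ) u + if u = 1 then (Nat.card U : ℂ) else 0 := by
    intro m u
    split_ifs with hu
    · subst hu
      rw [OneMemClass.coe_one, indFun_one, hlam m 1 (one_mem U), mul_one]
      haveI := hZ.2.1
      haveI : IsPretransitive G Ω := isPretransitive_of_is_two_pretransitive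
      rw [index_stabilizer_of_transitive G a, ← hK.card_eq]
      simp [triv, add_comm]
    rw [add_zero]
    have hu' : (u : G) ≠ 1 := fun e => hu (Subtype.ext e)
    have hx : ∀ x : G, extendByZero N (lam m : N → ℂ) (x⁻¹ * u * x) = if x ∈ N then 1 else 0 := by
      intro x
      split_ifs with hxN
      · have hmem : x⁻¹ * (u : G) * x ∈ U := by
          simpa using hK.conj x⁻¹ (inv_mem hxN) u u.2
        rw [extendByZero_mem N _ (hK.le hmem), hlam m _ hmem]
      · refine extendByZero_not_mem N _ fun hm => hxN ?_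
        have : (x⁻¹ * (u : G) * x) • a = a := hm
        rw [mul_smul, mul_smul, inv_smul_eq_iff] at this
        exact hK.fix_only u.2 hu' this
    simp only [indFun, hx, triv]
    rw [← Finset.sum_filter, Finset.sum_const, nsmul_eq_mul, mul_one, ← Fintype.card_subtype,
      ← Nat.card_eq_fintype_card]
    exact inv_mul_cancel₀ (card_ne_zero_complex N)
  have key : ∀ m (θ : IrrCharacter U), ∑ χ : IrrCharacter G, mult N χ (lam m) * mult U χ θ =
      (if θ = triv then 1 else 0) + charDegree (θ : U → ℂ) := by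
    intro m θ
    have e1 : classInner (fun u : U => indFun N (lam m : N → ℂ) u) (θ : U → ℂ) =
        ∑ χ : IrrCharacter G, (mult N χ (lam m) : ℂ) * (mult U χ θ : ℂ) := by
      rw [show (fun u : U => indFun N (lam m : N → ℂ) u) =
          ∑ χ : IrrCharacter G, (mult N χ (lam m) : ℂ) • (fun u : U => (χ : G → ℂ) u) from
        funext fun u => by
          conv_lhs => rw [eq_sum_classInner_smul (isClassFunction_indFun N (lam m : N → ℂ))]
          simp only [Finset.sum_apply, Pi.smul_apply, smul_eq_mul]
          refine Finset.sum_congr rfl fun χ _ => ?_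
          rw [classInner_indFun N _ (isClassFunction_of_isIrr χ.2), classInner_conj_symm, mult_spec,
            map_natCast],
        classInner_sum_left]
      exact Finset.sum_congr rfl fun χ _ => by rw [classInner_smul_left, mult_spec]
    rw [show (fun u : U => indFun N (lam m : N → ℂ) u) = ((triv : IrrCharacter U) : U → ℂ) +
      fun u : U => if u = 1 then (Nat.card U : ℂ) else 0 from funext (hres m), classInner_add_left,
      classInner_irrCharacter] at e1
    have e2 : classInner (fun u : U => if u = 1 then (Nat.card U : ℂ) else 0) (θ : U → ℂ) =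
        (charDegree (θ : U → ℂ) : ℂ) := by
      simp only [classInner, ite_mul, zero_mul, Finset.sum_ite_eq', Finset.mem_univ, if_true,
        deg_cast, map_natCast]
      field_simp [card_ne_zero_complex U]
    rw [e2] at e1
    refine Nat.cast_injective (R := ℂ) ?_
    push_cast
    rw [← e1]
    simp only [eq_comm]
  -- irreducibility
  have hirr : ∀ m : N ⧸ A →* ℂˣ, m ≠ 1 → IsIrrCharacter G (indFun N (lam m : N → ℂ)) := by
    intro m hm
    haveI := Fintype.ofFinite Ω
    refine (S0881.result hZ hK.ne hodd ?_ U hK.le (by rw [hK.card_eq, Nat.card_eq_fintype_card])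
      (fun u hu hu1 c hc => hK.fix_only hu hu1 hc) _ ⟨isCharacter_of_isIrr (lam m).2, hlam m 1 (one_mem U)⟩
      (fun u hu => hlam m u hu) fun e => hm (MonoidHom.ext fun x => ?_)).1
    · rw [← hedef, ← Nat.card_eq_fintype_card, ← hK.card_eq]; omega
    · induction x using QuotientGroup.induction_on with
      | H g => exact Units.ext (congrFun e g)
  have hT1 : mult U (triv : IrrCharacter G) (triv : IrrCharacter U) = 1 := by
    have e := mult_spec U (triv : IrrCharacter G) (triv : IrrCharacter U)
    rw [show (fun u : U => ((triv : IrrCharacter G) : G → ℂ) u) = ((triv : IrrCharacter U) : U → ℂ)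
      from rfl, classInner_irr_self triv.2] at e
    exact_mod_cast e.symm
  have hn1 : mult N (triv : IrrCharacter G) (lam 1) = 1 := by
    have e := mult_spec N (triv : IrrCharacter G) (lam 1)
    rw [show (fun g : N => ((triv : IrrCharacter G) : G → ℂ) g) = (lam 1 : N → ℂ) from
      funext fun g => by simp [triv, lam], classInner_irr_self (lam 1).2] at e
    exact_mod_cast e.symm
  have hle : ∀ χ : IrrCharacter G, mult N χ (lam 1) ≤ mult U χ triv := fun χ =>
    hT χ ▸ Finset.single_le_sum (f := fun m => mult N χ (lam m)) (fun _ _ => Nat.zero_le _) (Finset.mem_univ _)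
  -- the permutation character
  have k1 := key 1 triv
  rw [if_pos rfl, deg_triv, ← Finset.add_sum_erase _ _ (Finset.mem_univ (triv : IrrCharacter G)), hn1,
    hT1, one_mul, Nat.add_left_cancel_iff] at k1
  obtain ⟨st, hst, hstne⟩ := Finset.exists_ne_zero_of_sum_ne_zero (k1.trans_ne one_ne_zero)
  have hst1 : mult N st (lam 1) = 1 ∧ mult U st triv = 1 := by
    have : mult N st (lam 1) * mult U st triv ≤ 1 :=
      k1 ▸ Finset.single_le_sum (f := fun χ => mult N χ (lam 1) * mult U χ triv) (fun _ _ => Nat.zero_le _) hst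
    have := mul_ne_zero_iff.mp hstne
    exact mul_eq_one.mp (by
      have : 0 < mult N st (lam 1) * mult U st triv := Nat.pos_of_ne_zero hstne
      omega)
  have hz : ∀ χ : IrrCharacter G, χ ≠ triv → χ ≠ st → mult N χ (lam 1) = 0 := by
    intro χ h1 h2
    by_contra h0
    have h3 : 1 ≤ mult N χ (lam 1) * mult U χ triv :=
      Nat.mul_pos (Nat.pos_of_ne_zero h0) (lt_of_lt_of_le (Nat.pos_of_ne_zero h0) (hle χ))
    have := Finset.sum_le_sum_of_subset (f := fun χ => mult N χ (lam 1) * mult U χ triv)
      (show {st, χ} ⊆ Finset.univ.erase (triv : IrrCharacter G) by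
        intro x hx
        simp only [Finset.mem_insert, Finset.mem_singleton] at hx
        rcases hx with rfl | rfl
        · exact hst
        · exact Finset.mem_erase.mpr ⟨h1, Finset.mem_univ _⟩)
    rw [k1, Finset.sum_pair h2.symm, hst1.1, hst1.2] at this
    omega
  have hstz : ∀ θ : IrrCharacter U, θ ≠ triv → mult U st θ = charDegree (θ : U → ℂ) := by
    intro θ hθ
    have e := key 1 θ
    rw [if_neg hθ, zero_add, ← Finset.add_sum_erase _ _ (Finset.mem_univ (triv : IrrCharacter G)),
      Finset.sum_eq_single_of_mem st hst (fun χ hχ hne => by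
        rw [hz χ (Finset.ne_of_mem_erase hχ) hne, zero_mul]), hst1.1, one_mul] at e
    have e0 : mult U (triv : IrrCharacter G) θ = 0 := by
      have e' := mult_spec U (triv : IrrCharacter G) θ
      rw [show (fun u : U => ((triv : IrrCharacter G) : G → ℂ) u) = ((triv : IrrCharacter U) : U → ℂ)
        from rfl, classInner_irr_ne triv.2 θ.2 (fun e => hθ (Subtype.ext e).symm)] at e'
      exact_mod_cast e'.symm
    rw [e0, mul_zero, zero_add] at e
    exact e
  -- the irreducible induced characters
  let η : (N ⧸ A →* ℂˣ) → IrrCharacter G := fun m =>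
    if hm : m ≠ 1 then ⟨_, hirr m hm⟩ else st
  have hηn : ∀ m, m ≠ 1 → ∀ χ, mult N χ (lam m) = if η m = χ then 1 else 0 := by
    intro m hm χ
    have e := mult_spec N χ (lam m)
    rw [← classInner_indFun_right N _ (isClassFunction_of_isIrr χ.2),
      show indFun N (lam m : N → ℂ) = (η m : G → ℂ) by simp [η, hm], classInner_irrCharacter] at e
    split_ifs with h1
    · rw [if_pos h1.symm] at e; exact_mod_cast e.symm
    · rw [if_neg (Ne.symm h1)] at e; exact_mod_cast e.symm
  have hηc : ∀ m, m ≠ 1 → ∀ θ, mult U (η m) θ = (if θ = triv then 1 else 0) + charDegree (θ : U → ℂ) := by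
    intro m hm θ
    rw [← key m θ, Finset.sum_eq_single (η m) (fun χ _ hne => by
      rw [hηn m hm, if_neg (Ne.symm hne), zero_mul]) (fun h => absurd (Finset.mem_univ _) h),
      hηn m hm, if_pos rfl, one_mul]
  set H := (Finset.univ.erase (1 : N ⧸ A →* ℂˣ)).image η with hH
  have hH2 : ∀ χ ∈ H, mult U χ triv = 2 := by
    intro χ hχ
    obtain ⟨m, hm, rfl⟩ := Finset.mem_image.mp hχ
    rw [hηc m (Finset.ne_of_mem_erase hm), if_pos rfl, deg_triv]
  have hfib : ∀ χ ∈ H, ((Finset.univ.erase (1 : N ⧸ A →* ℂˣ)).filter fun m => η m = χ).card = 2 := by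
    intro χ hχ
    have h2 := hH2 χ hχ
    have h1 : χ ≠ triv := fun e => by rw [e, hT1] at h2; omega
    have h3 : χ ≠ st := fun e => by rw [e, hst1.2] at h2; omega
    rw [← h2, ← hT χ, ← Finset.add_sum_erase _ _ (Finset.mem_univ (1 : N ⧸ A →* ℂˣ)), hz χ h1 h3,
      zero_add, Finset.card_filter]
    exact Finset.sum_congr rfl fun m hm => (hηn m (Finset.ne_of_mem_erase hm) χ).symm
  have hHc : 2 * H.card + 1 = e := by
    have := Finset.card_eq_sum_card_image η (Finset.univ.erase (1 : N ⧸ A →* ℂˣ))
    rw [← hH, Finset.sum_congr rfl hfib, Finset.sum_const, smul_eq_mul,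
      Finset.card_erase_of_mem (Finset.mem_univ _), Finset.card_univ, hcm] at this
    have : 0 < e := Nat.card_pos
    omega
  have hstH : st ∉ H := fun hst => by have := hH2 st hst; rw [hst1.2] at this; omega
  refine ⟨insert st H, by rw [Finset.card_insert_of_notMem hstH]; omega, fun χ hχ θ hθ => ?_, ?_,
    st, Finset.mem_insert_self _ _, fun g hg => ?_⟩
  · rcases Finset.mem_insert.mp hχ with rfl | hχ
    · exact hstz θ hθ
    · obtain ⟨m, hm, rfl⟩ := Finset.mem_image.mp hχ
      rw [hηc m (Finset.ne_of_mem_erase hm), if_neg hθ, zero_add]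
  · rw [Finset.sum_insert hstH, hst1.2, Finset.sum_congr rfl hH2, Finset.sum_const, smul_eq_mul]
    omega
  · have h0 : ∀ m, indFun N (lam m : N → ℂ) g = 0 := fun m => by
      simp only [indFun, extendByZero_not_mem N _ (hg _), Finset.sum_const_zero, mul_zero]
    refine ⟨?_, fun χ hχ hne => ?_⟩
    · have e1 : indFun N (lam 1 : N → ℂ) g = ((triv : IrrCharacter G) : G → ℂ) g + (st : G → ℂ) g := by
        conv_lhs => rw [eq_sum_classInner_smul (isClassFunction_indFun N (lam 1 : N → ℂ))]
        simp only [Finset.sum_apply, Pi.smul_apply, smul_eq_mul]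
        have hn : ∀ χ : IrrCharacter G,
            classInner (indFun N (lam 1 : N → ℂ)) (χ : G → ℂ) = (mult N χ (lam 1) : ℂ) := fun χ => by
          rw [classInner_indFun N _ (isClassFunction_of_isIrr χ.2), classInner_conj_symm, mult_spec,
            map_natCast]
        simp only [hn]
        rw [← Finset.add_sum_erase _ _ (Finset.mem_univ (triv : IrrCharacter G)), hn1,
          Finset.sum_eq_single_of_mem st hst (fun χ hχ hne => by
            rw [hz χ (Finset.ne_of_mem_erase hχ) hne, Nat.cast_zero, zero_mul]), hst1.1]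
        simp
      rw [h0] at e1
      simp only [triv] at e1
      linear_combination -e1
    · obtain ⟨m, hm, rfl⟩ := Finset.mem_image.mp ((Finset.mem_insert.mp hχ).resolve_left hne)
      have hm' := Finset.ne_of_mem_erase hm
      simp only [η, dif_pos hm']
      exact h0 m

theorem exists_induced_rows (h : Ker U a b)
    (hlt : Nat.card ↥(stabilizer G a ⊓ stabilizer G b) + 1 < Nat.card U) :
    ∃ P : Finset (IrrCharacter G),
      2 * P.card = Nat.card ↥(stabilizer G a ⊓ stabilizer G b) + 1 ∧
      (∀ χ ∈ P, ∀ θ : IrrCharacter U, θ ≠ triv → mult U χ θ = charDegree (θ : U → ℂ)) ∧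
      ∑ χ ∈ P, mult U χ triv = Nat.card ↥(stabilizer G a ⊓ stabilizer G b) :=
  let ⟨P, h1, h2, h3, _⟩ := induced_rows h.kernel h.zass h.cyclic_twoPt h.odd_twoPt hlt
  ⟨P, h1, h2, h3⟩

end Cfsg.Agent.Lib.SuzukiKernel
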