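import Cfsg.Agent.Lib.SuzukiKernel.Rows
import Cfsg.Agent.Lib.SuzukiKernel.Induced

/-!
When the kernel has order `q ^ 2`, `q = |D| + 1`, the exponent of `q` is odd.
-/

set_option autoImplicit false
set_option linter.style.haveILetI false

open scoped ComplexConjugate commutatorElement

namespace Cfsg.Agent.Lib.SuzukiKernel

open MulAction Cfsg.Agent.Lib.Char Cfsg.Agent.Lib.Zass

universe u v

/-- Three integer vectors of square two, two of them odd under an involution of the index set. -/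
theorem two_vectors {ι : Type*} [Fintype ι] (σ : ι → ι) (hσ : ∀ i, σ (σ i) = i) (p r w : ι → ℤ)
    (hp : ∀ i, p (σ i) = -p i) (hr : ∀ i, r (σ i) = -r i) (pp : ∑ i, p i * p i = 2)
    (rr : ∑ i, r i * r i = 2) (ww : ∑ i, w i * w i = 2) (pr : ∑ i, p i * r i = 0)
    (pw : ∑ i, p i * w i = 1) (rw_ : ∑ i, r i * w i = -1) {x : ι} (hx : σ x = x) : w x = 0 := by
  classical
  by_contra hwx
  have hpx : p x = 0 := by have := hp x; rw [hx] at this; omega
  have hrx : r x = 0 := by have := hr x; rw [hx] at this; omega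
  obtain ⟨y, -, hy⟩ := Finset.exists_ne_zero_of_sum_ne_zero (pw.trans_ne one_ne_zero)
  obtain ⟨hpy, hwy⟩ := mul_ne_zero_iff.mp hy
  have hyx : y ≠ x := fun e => hpy (e ▸ hpx)
  have sq1 : ∀ k : ℤ, k ≠ 0 → 1 ≤ k * k := fun k hk => mul_self_pos.mpr hk
  have supp2 : ∀ (f : ι → ℤ) (i j : ι), i ≠ j → f i ≠ 0 → f j ≠ 0 → (∑ k, f k * f k = 2) →
      f i * f i = 1 ∧ f j * f j = 1 ∧ ∀ k, k ≠ i → k ≠ j → f k = 0 := by
    intro f i j hij hi hj hs
    rw [← Finset.add_sum_erase _ _ (Finset.mem_univ i),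
      ← Finset.add_sum_erase _ _ (Finset.mem_erase.mpr ⟨hij.symm, Finset.mem_univ j⟩)] at hs
    have h1 := sq1 _ hi
    have h2 := sq1 _ hj
    have h0 : 0 ≤ ∑ k ∈ (Finset.univ.erase i).erase j, f k * f k :=
      Finset.sum_nonneg fun k _ => mul_self_nonneg _
    refine ⟨by omega, by omega, fun k hki hkj => mul_self_eq_zero.mp ?_⟩
    exact (Finset.sum_eq_zero_iff_of_nonneg fun k _ => mul_self_nonneg (f k)).mp (by omega) k
      (Finset.mem_erase.mpr ⟨hkj, Finset.mem_erase.mpr ⟨hki, Finset.mem_univ k⟩⟩)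
  obtain ⟨-, hwy1, hw0⟩ := supp2 w x y hyx.symm hwx hwy ww
  have epw : p y * w y = 1 := by
    rw [← pw]
    refine (Finset.sum_eq_single (f := fun k => p k * w k) y (fun k _ hk => ?_) (fun h => absurd (Finset.mem_univ y) h)).symm
    rcases eq_or_ne k x with rfl | hkx
    · rw [hpx, zero_mul]
    · rw [hw0 k hkx hk, mul_zero]
  have erw : r y * w y = -1 := by
    rw [← rw_]
    refine (Finset.sum_eq_single (f := fun k => r k * w k) y (fun k _ hk => ?_) (fun h => absurd (Finset.mem_univ y) h)).symm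
    rcases eq_or_ne k x with rfl | hkx
    · rw [hrx, zero_mul]
    · rw [hw0 k hkx hk, mul_zero]
  have epr : p y * r y = -1 := by
    have : p y * r y * (w y * w y) = -1 := by
      rw [show p y * r y * (w y * w y) = p y * w y * (r y * w y) by ring, epw, erw]; ring
    rwa [hwy1, mul_one] at this
  have hσy : σ y ≠ y := fun e => hpy (by have := hp y; rw [e] at this; omega)
  obtain ⟨-, -, hp0⟩ := supp2 p y (σ y) hσy.symm hpy (by rw [hp]; simpa using hpy) pp
  rw [← Finset.add_sum_erase _ _ (Finset.mem_univ y),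
    ← Finset.add_sum_erase _ _ (Finset.mem_erase.mpr ⟨hσy, Finset.mem_univ (σ y)⟩),
    Finset.sum_eq_zero fun k hk => by
      simp only [Finset.mem_erase] at hk
      rw [hp0 k hk.2.1 hk.1, zero_mul], hp, hr, neg_mul_neg, epr] at pr
  omega

variable {G : Type u} {Ω : Type v} [Group G] [MulAction G Ω] [Fintype G] [Finite Ω] [IsSimpleGroup G]
variable {U : Subgroup G} {a b : Ω} [Fintype U] [Fintype ↥(stabilizer G a ⊓ stabilizer G b)]

omit [Fintype G] [Fintype ↥(stabilizer G a ⊓ stabilizer G b)] in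
theorem roots_smul [Finite G] (h : Ker U a b) (d : ↥(stabilizer G a ⊓ stabilizer G b)) (x : U) :
    roots (h.kernel.conjU d x) = roots x := by
  classical
  simp only [roots]
  symm
  refine Finset.card_bij (fun s _ => h.kernel.conjU d s) (fun s hs => ?_)
    (fun s _ t _ e => (conjU_bijective h.kernel d).1 e) fun t ht => ?_
  · simp only [Finset.mem_filter, Finset.mem_univ, true_and] at hs ⊢
    rw [← map_mul, hs]
  · obtain ⟨s, rfl⟩ := (conjU_bijective h.kernel d).2 t
    simp only [Finset.mem_filter, Finset.mem_univ, true_and, ← map_mul] at ht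
    exact ⟨s, by simp [(conjU_bijective h.kernel d).1 ht], rfl⟩

theorem sum_orbit (h : Ker U a b) {y : U} (hy : y ∈ SuzukiTwo.Omega U) (hy1 : y ≠ 1)
    [DecidableEq U] :
    (Finset.univ.image fun d => h.kernel.conjU d y) =
      (Finset.univ.filter fun x : U => x * x = 1).erase 1 ∧
    Function.Injective fun d => h.kernel.conjU d y := by
  obtain ⟨n, -, hn, hO, -, -, -, hmem⟩ := h.structure_facts
  have hinj : Function.Injective fun d => h.kernel.conjU d y := by
    intro g k e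
    have e' := congrArg (h.kernel.conjU k⁻¹) e
    simp only [h.kernel.conjU_conjU, mul_inv_cancel, h.kernel.conjU_one] at e'
    by_contra hne
    have hne' : ((g * k⁻¹ : ↥(stabilizer G a ⊓ stabilizer G b)) : G)⁻¹ ≠ 1 := fun e =>
      hne (mul_inv_eq_one.mp (Subtype.ext (inv_eq_one.mp e)))
    refine hy1 (Subtype.ext (kernel_free h.kernel h.zass (inv_mem (g * k⁻¹).2) hne' y.2 ?_))
    rw [inv_inv]
    exact congrArg Subtype.val e'
  refine ⟨Finset.eq_of_subset_of_card_le (fun x hx => ?_) ?_, hinj⟩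
  · obtain ⟨d, -, rfl⟩ := Finset.mem_image.mp hx
    simp only [Finset.mem_erase, Finset.mem_filter, Finset.mem_univ, true_and]
    refine ⟨fun e => hy1 ((conjU_bijective h.kernel d).1 (e.trans (map_one _).symm)), ?_⟩
    rw [← map_mul, (hmem y).mp hy, map_one]
  · rw [Finset.card_image_of_injective _ hinj, Finset.card_erase_of_mem (by simp), Finset.card_univ,
      ← Nat.card_eq_fintype_card]
    have := roots_kernel_one h
    simp only [roots] at this
    have e2 : (Finset.univ.filter fun x : U => x * x = 1).card =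
        Nat.card ↥(stabilizer G a ⊓ stabilizer G b) + 1 := by convert this
    omega

open scoped _root_.Classical in
/-- Squaring is uniformly `q`-to-one onto the central elements of order at most two. -/
theorem roots_eq (h : Ker U a b)
    (hsq : Nat.card U = (Nat.card ↥(stabilizer G a ⊓ stabilizer G b) + 1) ^ 2) (x : U) :
    roots x = if x * x = 1 then Nat.card ↥(stabilizer G a ⊓ stabilizer G b) + 1 else 0 := by
  classical
  obtain ⟨n, -, -, -, -, -, hsqm, hmem⟩ := h.structure_facts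
  set e := Nat.card ↥(stabilizer G a ⊓ stabilizer G b) with hedef
  split_ifs with hx
  swap
  · simp only [roots, Finset.card_eq_zero, Finset.filter_eq_empty_iff]
    exact fun s _ hs => hx ((hmem x).mp (hs ▸ hsqm s))
  rcases eq_or_ne x 1 with rfl | hx1
  · exact roots_kernel_one h
  obtain ⟨himg, hinj⟩ := sum_orbit h ((hmem x).mpr hx) hx1
  have hsum : ∑ y ∈ Finset.univ.filter (fun y : U => y * y = 1), roots y = Nat.card U := by
    have := Finset.card_eq_sum_card_fiberwise (f := fun s : U => s * s) (s := Finset.univ)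
      (t := Finset.univ.filter fun y : U => y * y = 1) (fun s _ => by simp [(hmem _).mp (hsqm s)])
    rw [Finset.card_univ, ← Nat.card_eq_fintype_card] at this
    rw [this]
    exact Finset.sum_congr rfl fun y _ => by simp only [roots]; congr!
  rw [← Finset.add_sum_erase _ _ (show (1 : U) ∈ Finset.univ.filter (fun y : U => y * y = 1) by simp),
    roots_kernel_one h, ← hedef, ← himg, Finset.sum_image hinj.injOn] at hsum
  simp only [roots_smul h] at hsum
  rw [Finset.sum_const, Finset.card_univ, ← Nat.card_eq_fintype_card, smul_eq_mul, ← hedef, hsq,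
    show (e + 1) ^ 2 = e + 1 + e * (e + 1) by ring, Nat.add_left_cancel_iff] at hsum
  exact Nat.eq_of_mul_eq_mul_left Nat.card_pos hsum

theorem fs_nonlin (h : Ker U a b)
    (hsq : Nat.card U = (Nat.card ↥(stabilizer G a ⊓ stabilizer G b) + 1) ^ 2) {θ : IrrCharacter U}
    (hθ : charDegree (θ : U → ℂ) ≠ 1) : fs θ = 0 := by
  classical
  set e := Nat.card ↥(stabilizer G a ⊓ stabilizer G b) with hedef
  have hr := roots_kernel_one h
  simp only [roots] at hr
  have hcount : (Finset.univ.filter fun y : U => y * y = 1).card = e + 1 := by convert hr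
  have h1 : ∑ χ : IrrCharacter U, (fs χ : ℂ) ^ 2 = ((e + 1 : ℕ) : ℂ) := by
    rw [sum_fs_sq]
    simp only [roots_eq h hsq, ← hedef]
    rw [Finset.sum_congr rfl (g := fun x : U => if x * x = 1 then ((e + 1 : ℕ) : ℂ) * (e + 1 : ℕ) else 0)
      fun x _ => by split_ifs <;> simp, ← Finset.sum_filter, Finset.sum_const, hcount, hsq,
      nsmul_eq_mul]
    push_cast
    have : (e : ℂ) + 1 ≠ 0 := by exact_mod_cast Nat.succ_ne_zero e
    field_simp
  have h2 : ∑ χ : IrrCharacter U, fs χ ^ 2 = ((e + 1 : ℕ) : ℤ) := by exact_mod_cast h1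
  have hL : (linChars U).card = e + 1 := by
    have := card_linChars h
    rw [← hedef, hsq, pow_two] at this
    exact Nat.eq_of_mul_eq_mul_right (Nat.succ_pos e) this
  have h4 : ∑ χ ∈ linChars U, fs χ ^ 2 = ((e + 1 : ℕ) : ℤ) := by
    rw [Finset.sum_congr rfl (g := fun _ => (1 : ℤ))
      (fun χ hχ => show fs χ ^ 2 = 1 by rw [fs_linear h (mem_linChars.mp hχ), one_pow]),
      Finset.sum_const, hL, nsmul_eq_mul, mul_one]
  rw [← Finset.sum_compl_add_sum (linChars U), h4, add_eq_right] at h2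
  have h3 := (Finset.sum_eq_zero_iff_of_nonneg fun χ _ => sq_nonneg (fs χ)).mp h2 θ
    (by rw [Finset.mem_compl, mem_linChars]; exact hθ)
  exact pow_eq_zero_iff two_ne_zero |>.mp h3

/-- The nonlinear characters of the kernel have one degree. -/
theorem deg_uniform (h : Ker U a b)
    (hsq : Nat.card U = (Nat.card ↥(stabilizer G a ⊓ stabilizer G b) + 1) ^ 2)
    {θ θ' : IrrCharacter U} (hθ : charDegree (θ : U → ℂ) ≠ 1) (hθ' : charDegree (θ' : U → ℂ) ≠ 1) :
    charDegree (θ : U → ℂ) = charDegree (θ' : U → ℂ) := by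
  classical
  obtain ⟨n, hn, hn2, hO, -, hcomm, hsqm, hmem⟩ := h.structure_facts
  set e := Nat.card ↥(stabilizer G a ⊓ stabilizer G b) with hedef
  have hA : ∀ {φ : IrrCharacter U}, charDegree (φ : U → ℂ) ≠ 1 →
      ∑ y ∈ Finset.univ.filter (fun y : U => y * y = 1), (φ : U → ℂ) y = 0 := by
    intro φ hφ
    have e1 := classInner_roots φ
    rw [fs_nonlin h hsq hφ, Int.cast_zero] at e1
    simp only [classInner, mul_eq_zero, inv_eq_zero, card_ne_zero_complex, false_or,
      roots_eq h hsq, Nat.cast_ite, Nat.cast_zero, ite_mul, zero_mul, ← Finset.sum_filter,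
      ← Finset.mul_sum] at e1
    rcases e1 with e1 | e1
    · exact absurd e1 (by exact_mod_cast Nat.succ_ne_zero e)
    · have := congrArg (starRingEnd ℂ) e1
      simpa [map_sum] using this
  set O := Finset.univ.filter (fun y : U => y * y = 1) with hOdef
  have h1O : (1 : U) ∈ O := by simp [hOdef]
  have hO1 : ∀ {φ : IrrCharacter U}, charDegree (φ : U → ℂ) ≠ 1 →
      ∑ y ∈ O.erase 1, (φ : U → ℂ) y = -(charDegree (φ : U → ℂ) : ℂ) := by
    intro φ hφ
    rw [eq_neg_iff_add_eq_zero, add_comm, ← deg_cast, Finset.add_sum_erase O _ h1O, hA hφ]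
  have htot : ∑ d : ↥(stabilizer G a ⊓ stabilizer G b),
      ∑ y ∈ O, (tw h.kernel d θ : U → ℂ) y * conj ((θ' : U → ℂ) y) ≠ 0 := by
    rw [Finset.sum_comm, ← Finset.add_sum_erase O _ h1O, Finset.sum_congr rfl
      (g := fun y => -(charDegree (θ : U → ℂ) : ℂ) * conj ((θ' : U → ℂ) y)) fun y hy => ?_,
      ← Finset.mul_sum, ← map_sum, hO1 hθ']
    · simp only [deg_cast, deg_tw, Finset.sum_const, Finset.card_univ, ← Nat.card_eq_fintype_card,
        ← hedef, nsmul_eq_mul, map_neg, map_natCast, neg_mul_neg]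
      have : 0 < e * (charDegree (θ : U → ℂ) * charDegree (θ' : U → ℂ)) +
          charDegree (θ : U → ℂ) * charDegree (θ' : U → ℂ) :=
        Nat.add_pos_right _ (Nat.mul_pos (charDegree_pos θ.2) (charDegree_pos θ'.2))
      exact_mod_cast this.ne'
    · rw [← Finset.sum_mul]
      congr 1
      obtain ⟨hy1, hy2⟩ := Finset.mem_erase.mp hy
      obtain ⟨himg, hinj⟩ := sum_orbit h ((hmem y).mpr (by simpa [hOdef] using hy2)) hy1
      rw [← hO1 hθ, hOdef, ← himg, Finset.sum_image hinj.injOn]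
      rfl
  obtain ⟨d, -, hd⟩ := Finset.exists_ne_zero_of_sum_ne_zero htot
  haveI : (SuzukiTwo.Omega U).Normal :=
    ⟨fun x hx g => by rw [Subgroup.mem_center_iff.mp hx.1 g, mul_inv_cancel_right]; exact hx⟩
  haveI : IsMulCommutative (U ⧸ SuzukiTwo.Omega U) := by
    refine ⟨⟨fun x y => QuotientGroup.induction_on x fun x => QuotientGroup.induction_on y fun y => ?_⟩⟩
    refine commutatorElement_eq_one_iff_mul_comm.mp ((QuotientGroup.eq_one_iff ⁅x, y⁆).mpr ?_)
    rw [← hcomm]
    exact Subgroup.commutator_mem_commutator (Subgroup.mem_top x) (Subgroup.mem_top y)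
  haveI : Finite (U ⧸ SuzukiTwo.Omega U →* ℂˣ) := by
    letI : CommGroup (U ⧸ SuzukiTwo.Omega U) :=
      { (inferInstance : Group (U ⧸ SuzukiTwo.Omega U)) with
        mul_comm := fun a b => IsMulCommutative.is_comm.comm a b }
    haveI : NeZero (Monoid.exponent (U ⧸ SuzukiTwo.Omega U)) := ⟨Monoid.exponent_ne_zero_of_finite⟩
    haveI : NeZero (Monoid.exponent (U ⧸ SuzukiTwo.Omega U) : ℂ) := NeZero.charZero
    refine Nat.finite_of_card_ne_zero ?_
    rw [CommGroup.card_monoidHom_of_hasEnoughRootsOfUnity]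
    exact Nat.card_pos.ne'
  haveI : Fintype (U ⧸ SuzukiTwo.Omega U →* ℂˣ) := Fintype.ofFinite _
  let lθ : (U ⧸ SuzukiTwo.Omega U →* ℂˣ) → IrrCharacter U := fun m =>
    ⟨fun g => (m.comp (QuotientGroup.mk' (SuzukiTwo.Omega U)) g : ℂ) * (θ' : U → ℂ) g,
      isIrrCharacter_linear_mul θ'.2 _⟩
  have hne : ∑ m, classInner (tw h.kernel d θ : U → ℂ) (lθ m : U → ℂ) ≠ 0 := by
    simp only [classInner, ← Finset.mul_sum, lθ, map_mul, MonoidHom.comp_apply, QuotientGroup.mk'_apply]
    rw [Finset.sum_comm]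
    simp only [← mul_assoc, ← Finset.sum_mul, ← Finset.mul_sum, ← map_sum, sum_hom_quot]
    refine mul_ne_zero (inv_ne_zero (card_ne_zero_complex U)) ?_
    rw [Finset.sum_congr rfl (g := fun y : U => if y * y = 1 then
      ((SuzukiTwo.Omega U).index : ℂ) * ((tw h.kernel d θ : U → ℂ) y * conj ((θ' : U → ℂ) y)) else 0)
      fun y _ => ?_, ← Finset.sum_filter, ← Finset.mul_sum]
    · exact mul_ne_zero (by exact_mod_cast Subgroup.index_ne_zero_of_finite) hd
    · by_cases hy : y * y = 1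
      · rw [if_pos hy, if_pos ((hmem y).mpr hy), map_natCast]; ring
      · rw [if_neg hy, if_neg (mt (hmem y).mp hy), map_zero, mul_zero, zero_mul]
  obtain ⟨m, -, hm⟩ := Finset.exists_ne_zero_of_sum_ne_zero hne
  rw [classInner_irrCharacter] at hm
  have e1 := congrFun (congrArg Subtype.val (of_not_not fun hc => hm (if_neg hc))) 1
  rw [deg_cast, deg_tw] at e1
  simp only [lθ, map_one, Units.val_one, one_mul, deg_cast] at e1
  exact_mod_cast e1

omit [Finite Ω] [IsSimpleGroup G] in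
/-- An element of the two-point stabiliser twisting a character to its conjugate. -/
theorem tw_cbar_self [Finite Ω] [IsSimpleGroup G] (h : Ker U a b) {θ : IrrCharacter U} (hθ : θ ≠ triv)
    (hreal : fs θ = 0) (d : ↥(stabilizer G a ⊓ stabilizer G b)) : tw h.kernel d θ ≠ cbar θ := by
  intro e
  have e2 : tw h.kernel (d * d) θ = θ := by
    rw [← tw_tw, e, tw_cbar, e, cbar_cbar]
  have hd := tw_eq_self h.kernel h.zass hθ e2
  have : d = 1 := by
    have ho : orderOf d ∣ 2 := orderOf_dvd_of_pow_eq_one (by rw [pow_two, hd])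
    have hodd := h.odd_twoPt.of_dvd_nat (orderOf_dvd_natCard d)
    rcases (Nat.dvd_prime Nat.prime_two).mp ho with ho | ho
    · exact orderOf_eq_one_iff.mp ho
    · rw [ho] at hodd; exact absurd hodd (by decide)
  rw [this, tw_one] at e
  exact (fs_eq_zero_iff θ).mp hreal e.symm

/-- Real characters of the group have constant multiplicity on the nonlinear characters of the kernel. -/
theorem mult_const (h : Ker U a b)
    (hsq : Nat.card U = (Nat.card ↥(stabilizer G a ⊓ stabilizer G b) + 1) ^ 2)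
    {x : IrrCharacter G} (hx : cbar x = x) {θ θ' : IrrCharacter U} (hθ : charDegree (θ : U → ℂ) ≠ 1)
    (hθ' : charDegree (θ' : U → ℂ) ≠ 1) : mult U x θ = mult U x θ' := by
  classical
  have hK := h.kernel
  have hZ := h.zass
  have hbar : ∀ φ : IrrCharacter U, mult U x (cbar φ) = mult U x φ := fun φ => by
    rw [mult_cbar_right, hx]
  by_cases h1 : ∃ d, tw hK d θ = θ' ∨ tw hK d (cbar θ) = θ'
  · obtain ⟨d, rfl | rfl⟩ := h1
    · rw [mult_tw]
    · rw [mult_tw, hbar]
  push Not at h1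
  have hne : θ ≠ triv := fun e => hθ (by rw [e, deg_triv])
  have hne' : θ' ≠ triv := fun e => hθ' (by rw [e, deg_triv])
  have hne₂ : cbar θ ≠ triv := fun e => hθ (by rw [← deg_cbar, e, deg_triv])
  have hne₂' : cbar θ' ≠ triv := fun e => hθ' (by rw [← deg_cbar, e, deg_triv])
  have hf := fs_nonlin h hsq hθ
  have hf' := fs_nonlin h hsq hθ'
  have hz := deg_uniform h hsq hθ' hθ
  set e := Nat.card ↥(stabilizer G a ⊓ stabilizer G b) with hedef
  set z := charDegree (θ : U → ℂ) with hzdef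
  have same : ∀ φ : IrrCharacter U, φ ≠ triv → charDegree (φ : U → ℂ) = z →
      ∑ χ : IrrCharacter G, (mult U χ φ : ℤ) * (mult U χ φ : ℤ) = 1 + e * z * z := by
    intro φ hφ hd
    have := gram_conj hK hZ hφ 1
    rw [tw_one, hd] at this
    exact_mod_cast this
  have diff : ∀ φ ψ : IrrCharacter U, charDegree (φ : U → ℂ) = z → charDegree (ψ : U → ℂ) = z →
      (∀ d, tw hK d ψ ≠ φ) →
      ∑ χ : IrrCharacter G, (mult U χ φ : ℤ) * (mult U χ ψ : ℤ) = e * z * z := by
    intro φ ψ hφ hψ hd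
    have := gram_not_conj hK hZ hd
    rw [hφ, hψ] at this
    exact_mod_cast this
  have flip : ∀ {φ ψ : IrrCharacter U}, (∀ d, tw hK d φ ≠ ψ) → ∀ d, tw hK d ψ ≠ φ := fun hd d e =>
    hd d⁻¹ (by rw [← e, tw_tw, inv_mul_cancel, tw_one])
  have zb : charDegree (cbar θ : U → ℂ) = z := deg_cbar θ
  have zb' : charDegree (cbar θ' : U → ℂ) = z := (deg_cbar θ').trans hz
  have s1 := same θ hne rfl
  have s2 := same θ' hne' hz
  have s3 := same (cbar θ) hne₂ zb
  have s4 := same (cbar θ') hne₂' zb'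
  have n12 := diff θ θ' rfl hz (flip fun d => (h1 d).1)
  have n21 := diff θ' θ hz rfl fun d => (h1 d).1
  have n13 := diff θ (cbar θ) rfl zb (flip (tw_cbar_self h hne hf))
  have n31 := diff (cbar θ) θ zb rfl (tw_cbar_self h hne hf)
  have n24 := diff θ' (cbar θ') hz zb' (flip (tw_cbar_self h hne' hf'))
  have n42 := diff (cbar θ') θ' zb' hz (tw_cbar_self h hne' hf')
  have q14 : ∀ d, tw hK d θ ≠ cbar θ' := fun d e => (h1 d).2 (by rw [tw_cbar, e, cbar_cbar])
  have n14 := diff θ (cbar θ') rfl zb' (flip q14)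
  have n41 := diff (cbar θ') θ zb' rfl q14
  have n32 := diff (cbar θ) θ' zb hz (flip fun d => (h1 d).2)
  have n23 := diff θ' (cbar θ) hz zb fun d => (h1 d).2
  have q34 : ∀ d, tw hK d (cbar θ) ≠ cbar θ' := fun d e => (h1 d).1 (by
    have := congrArg cbar e
    rwa [tw_cbar, cbar_cbar, cbar_cbar] at this)
  have n34 := diff (cbar θ) (cbar θ') zb zb' (flip q34)
  have n43 := diff (cbar θ') (cbar θ) zb' zb q34
  have key := two_vectors (ι := IrrCharacter G) cbar cbar_cbar
    (fun χ => (mult U χ θ : ℤ) - mult U χ (cbar θ)) (fun χ => (mult U χ θ' : ℤ) - mult U χ (cbar θ'))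
    (fun χ => (mult U χ θ : ℤ) - mult U χ θ')
    (fun χ => by
      simp only [mult_cbar, ← mult_cbar_right U χ θ]; ring)
    (fun χ => by
      simp only [mult_cbar, ← mult_cbar_right U χ θ']; ring)
    (by simp only [sub_mul, mul_sub, Finset.sum_sub_distrib]; linarith)
    (by simp only [sub_mul, mul_sub, Finset.sum_sub_distrib]; linarith)
    (by simp only [sub_mul, mul_sub, Finset.sum_sub_distrib]; linarith)
    (by simp only [sub_mul, mul_sub, Finset.sum_sub_distrib]; linarith)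
    (by simp only [sub_mul, mul_sub, Finset.sum_sub_distrib]; linarith)
    (by simp only [sub_mul, mul_sub, Finset.sum_sub_distrib]; linarith) hx
  simp only [sub_eq_zero, Nat.cast_inj] at key
  exact key

theorem odd_exponent (h : Ker U a b)
    (hsq : Nat.card U = (Nat.card ↥(stabilizer G a ⊓ stabilizer G b) + 1) ^ 2) {n : ℕ}
    (hn : Nat.card ↥(stabilizer G a ⊓ stabilizer G b) + 1 = 2 ^ n) (hn2 : 2 ≤ n) : Odd n := by
  classical
  set e := Nat.card ↥(stabilizer G a ⊓ stabilizer G b) with hedef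
  have h4 : 4 ≤ 2 ^ n := le_trans (by norm_num) (Nat.pow_le_pow_right (by norm_num) hn2)
  have heodd : Odd e := h.odd_twoPt
  have hL : (linChars U).card = e + 1 := by
    have := card_linChars h
    rw [← hedef, hsq, pow_two] at this
    exact Nat.eq_of_mul_eq_mul_right (Nat.succ_pos e) this
  set L := (linChars U).erase triv with hLdef
  have hmemL : ∀ {θ}, θ ∈ L ↔ θ ≠ triv ∧ charDegree (θ : U → ℂ) = 1 := by
    intro θ; rw [hLdef, Finset.mem_erase, mem_linChars]
  have hLc : L.card = e := by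
    rw [hLdef, Finset.card_erase_of_mem (mem_linChars.mpr deg_triv), hL, Nat.add_sub_cancel]
  obtain ⟨θ₁, hθ₁⟩ := Finset.card_pos.mp (show 0 < L.card by omega)
  obtain ⟨hne₁, hd₁⟩ := hmemL.mp hθ₁
  have hLorb : Finset.univ.image (fun d => tw h.kernel d θ₁) = L := by
    refine Finset.eq_of_subset_of_card_le (fun θ hθ => ?_) ?_
    · obtain ⟨d, -, rfl⟩ := Finset.mem_image.mp hθ
      refine hmemL.mpr ⟨fun e => hne₁ ?_, by rw [deg_tw, hd₁]⟩
      have := congrArg (tw h.kernel d⁻¹) e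
      rwa [tw_tw, inv_mul_cancel, tw_one, tw_triv] at this
    · rw [Finset.card_image_of_injective _ (fun x y => tw_inj h.kernel h.zass hne₁ (g := x) (k := y)),
        Finset.card_univ, hLc, ← Nat.card_eq_fintype_card]
  have hLm : ∀ χ : IrrCharacter G, ∀ θ ∈ L, mult U χ θ = mult U χ θ₁ := by
    intro χ θ hθ
    rw [← hLorb] at hθ
    obtain ⟨d, -, rfl⟩ := Finset.mem_image.mp hθ
    rw [mult_tw]
  obtain ⟨hrow, hSc⟩ := lin_row (G := G) h hd₁ hne₁
  rw [← hedef] at hSc
  -- the nonlinear characters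
  have hsum := sum_deg_sq_nonlin h
  rw [hL, hsq, show (e + 1) ^ 2 = e * (e + 1) + (e + 1) by ring, Nat.add_right_cancel_iff] at hsum
  obtain ⟨θ₀, hθ₀, -⟩ := Finset.exists_ne_zero_of_sum_ne_zero
    (hsum.trans_ne (Nat.mul_pos (show 0 < e by omega) (Nat.succ_pos e)).ne')
  rw [Finset.mem_compl, mem_linChars] at hθ₀
  set z := charDegree (θ₀ : U → ℂ) with hzdef
  have hdeg : ∀ θ ∈ (linChars U)ᶜ, charDegree (θ : U → ℂ) = z := fun θ hθ => by
    rw [Finset.mem_compl, mem_linChars] at hθ; exact deg_uniform h hsq hθ hθ₀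
  rw [Finset.sum_congr rfl fun θ hθ => by rw [hdeg θ hθ], Finset.sum_const, smul_eq_mul] at hsum
  set M := (linChars U)ᶜ.card with hMdef
  obtain ⟨m, hm1, hm⟩ := h.exists_pow_two
  obtain ⟨k, -, hk⟩ := (Nat.dvd_prime_pow Nat.prime_two).mp (hm ▸ charDegree_dvd_card θ₀.2 : z ∣ 2 ^ m)
  rw [hk, hn, ← pow_mul] at hsum
  have hkn : k * 2 ≤ n := by
    by_contra hlt
    push Not at hlt
    obtain ⟨j, hj⟩ : ∃ j, k * 2 = n + 1 + j := ⟨k * 2 - n - 1, by omega⟩
    rw [hj, show M * 2 ^ (n + 1 + j) = (2 * (2 ^ j * M)) * 2 ^ n by ring] at hsum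
    have := Nat.eq_of_mul_eq_mul_right (by positivity) hsum
    exact Nat.not_even_iff_odd.mpr heodd ⟨2 ^ j * M, by omega⟩
  obtain ⟨i, hi⟩ : ∃ i, n = k * 2 + i := ⟨n - k * 2, by omega⟩
  have hM : M = e * 2 ^ i := by
    rw [hi, pow_add, mul_comm (2 ^ (k * 2)) (2 ^ i), ← mul_assoc] at hsum
    exact Nat.eq_of_mul_eq_mul_right (by positivity) hsum
  rcases Nat.even_or_odd n with hev | hodd
  swap
  · exact hodd
  exfalso
  have hθ₀ne : θ₀ ≠ triv := fun e => hθ₀ (by rw [hzdef, e, deg_triv])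
  have hf₀ := fs_nonlin h hsq hθ₀
  have hi2 : 2 ≤ i := by
    have hne0 : i ≠ 0 := by
      intro h0
      have horb : Finset.univ.image (fun d => tw h.kernel d θ₀) = (linChars U)ᶜ := by
        refine Finset.eq_of_subset_of_card_le (fun θ hθ => ?_) ?_
        · obtain ⟨d, -, rfl⟩ := Finset.mem_image.mp hθ
          rw [Finset.mem_compl, mem_linChars, deg_tw]; exact hθ₀
        · rw [Finset.card_image_of_injective _ (fun x y => tw_inj h.kernel h.zass hθ₀ne (g := x) (k := y)),
            Finset.card_univ, ← Nat.card_eq_fintype_card, ← hMdef, hM, h0, pow_zero, mul_one]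
      obtain ⟨d, -, hd⟩ := Finset.mem_image.mp (show cbar θ₀ ∈ Finset.univ.image (fun d => tw h.kernel d θ₀) by
        rw [horb, Finset.mem_compl, mem_linChars, deg_cbar]; exact hθ₀)
      exact tw_cbar_self h hθ₀ne hf₀ d hd
    obtain ⟨j, hj⟩ := hev
    omega
  set r := 2 ^ i with hrdef
  have hr4 : 4 ≤ r := le_trans (by norm_num) (Nat.pow_le_pow_right (by norm_num) hi2)
  have hreven : Even r := (Nat.even_pow' (by omega)).mpr even_two
  have hq : e + 1 = r * z ^ 2 := by rw [hn, hk, hi, pow_add, pow_mul, mul_comm]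
  -- the rows
  obtain ⟨P, hP2, hPz, hPT⟩ := exists_induced_rows h (by rw [← hedef, hsq, pow_two]; nlinarith)
  rw [← hedef] at hP2 hPT
  have hPS : P ⊆ supp θ₁ := fun χ hχ => mem_supp.mpr (by rw [hPz χ hχ θ₁ hne₁, hd₁]; exact one_ne_zero)
  set R := supp (G := G) θ₁ \ P with hR
  have hRc : R.card = P.card := by
    rw [hR, Finset.card_sdiff_of_subset hPS, hSc]; omega
  have hT : ∀ χ ∈ R, mult U χ triv = 0 := by
    have e1 := gram_triv h.kernel h.zass hne₁ (G := G)
    rw [sum_lin_mul h hd₁ hne₁, hd₁, mul_one, ← Finset.sum_sdiff hPS, hPT] at e1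
    rw [← hR, ← hedef, add_eq_right] at e1
    exact fun χ hχ => Finset.sum_eq_zero_iff.mp e1 χ hχ
  have hreal : ∀ χ ∈ R, cbar χ = χ := fun χ hχ =>
    cbar_of_fs_one (hrow χ (Finset.mem_sdiff.mp hχ).1).2
  have hconst : ∀ χ ∈ R, ∀ θ ∈ (linChars U)ᶜ, mult U χ θ = mult U χ θ₀ := fun χ hχ θ hθ => by
    rw [Finset.mem_compl, mem_linChars] at hθ
    exact mult_const h hsq (hreal χ hχ) hθ hθ₀
  have hdiv : ∀ χ ∈ R, (1 + r * (z * mult U χ θ₀)) ∣ (e + 1) ^ 2 + 1 := by
    intro χ hχ
    have hdg : charDegree (χ : G → ℂ) = e * (1 + r * (z * mult U χ θ₀)) := by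
      rw [deg_eq_sum U χ, ← Finset.sum_compl_add_sum (linChars U),
        Finset.sum_congr rfl (g := fun _ => mult U χ θ₀ * z) fun θ hθ => by
          rw [hconst χ hχ θ hθ, hdeg θ hθ], Finset.sum_const, ← hMdef, hM,
        ← Finset.add_sum_erase _ _ (mem_linChars.mpr (deg_triv (X := U))), hT χ hχ, zero_mul, zero_add,
        ← hLdef, Finset.sum_congr rfl (g := fun _ => 1) fun θ hθ => by
          rw [hLm χ θ hθ, (hrow χ (Finset.mem_sdiff.mp hχ).1).1, (hmemL.mp hθ).2],
        Finset.sum_const, hLc, smul_eq_mul, smul_eq_mul]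
      ring
    have h1 := charDegree_dvd_card χ.2
    rw [hdg, card_G h.kernel h.zass, hsq, ← hedef,
      show ((e + 1) ^ 2 + 1) * (e + 1) ^ 2 * e = e * (((e + 1) ^ 2 + 1) * (e + 1) ^ 2) by ring] at h1
    refine Nat.Coprime.dvd_of_dvd_mul_right ?_ (Nat.dvd_of_mul_dvd_mul_left (by omega) h1)
    rw [hn, ← pow_mul]
    refine Nat.Coprime.pow_right _ (Nat.coprime_two_right.mpr ?_)
    exact Even.one_add (hreven.mul_right _)
  have g1 : ∑ χ : IrrCharacter G, (mult U χ θ₀ : ℤ) ^ 2 = 1 + e * z ^ 2 := by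
    have := gram_conj h.kernel h.zass hθ₀ne 1 (G := G)
    rw [tw_one, ← hzdef, ← hedef] at this
    simp only [pow_two, ← mul_assoc]
    exact_mod_cast this
  have g2 : ∑ χ ∈ supp (G := G) θ₁, (mult U χ θ₀ : ℤ) = e * z := by
    have := gram_not_conj h.kernel h.zass (θ := θ₁) (θ' := θ₀) (G := G)
      fun d e => hθ₀ (by rw [hzdef, ← deg_tw h.kernel d, e, hd₁])
    rw [sum_lin_mul h hd₁ hne₁, hd₁, mul_one, ← hedef, ← hzdef] at this
    exact_mod_cast this
  have hPv : ∀ χ ∈ P, (mult U χ θ₀ : ℤ) = z := fun χ hχ => by rw [hPz χ hχ θ₀ hθ₀ne]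
  rw [← Finset.sum_sdiff hPS, ← hR, Finset.sum_congr rfl hPv, Finset.sum_const, nsmul_eq_mul] at g2
  have g3 : ∑ χ ∈ R, (mult U χ θ₀ : ℤ) ^ 2 + (P.card : ℤ) * (z : ℤ) ^ 2 ≤ 1 + e * z ^ 2 := by
    rw [← g1, show (P.card : ℤ) * (z : ℤ) ^ 2 = ∑ χ ∈ P, (mult U χ θ₀ : ℤ) ^ 2 by
      rw [Finset.sum_congr rfl (g := fun _ => (z : ℤ) ^ 2) fun χ hχ => by rw [hPv χ hχ],
        Finset.sum_const, nsmul_eq_mul], hR, Finset.sum_sdiff hPS]
    exact Finset.sum_le_sum_of_subset_of_nonneg (Finset.subset_univ _) fun _ _ _ => sq_nonneg _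
  set δ : IrrCharacter G → ℤ := fun χ => (mult U χ θ₀ : ℤ) - z with hδ
  have hP2' : 2 * (P.card : ℤ) = e + 1 := by exact_mod_cast hP2
  have hsum1 : ∑ χ ∈ R, δ χ = -(z : ℤ) := by
    simp only [hδ, Finset.sum_sub_distrib, Finset.sum_const, hRc, nsmul_eq_mul]
    linear_combination g2 - (z : ℤ) * hP2'
  have hsum2 : ∑ χ ∈ R, δ χ ^ 2 ≤ 1 + (z : ℤ) ^ 2 := by
    have : ∑ χ ∈ R, δ χ ^ 2 = ∑ χ ∈ R, (mult U χ θ₀ : ℤ) ^ 2 - 2 * z * ∑ χ ∈ R, δ χ
        - (P.card : ℤ) * (z : ℤ) ^ 2 := by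
      rw [Finset.mul_sum, ← hRc, ← nsmul_eq_mul, ← Finset.sum_const, ← Finset.sum_sub_distrib,
        ← Finset.sum_sub_distrib]
      exact Finset.sum_congr rfl fun χ _ => by simp only [hδ]; ring
    rw [this, hsum1]
    linear_combination g3 - (z : ℤ) ^ 2 * hP2'
  have hneg : ∀ χ ∈ R, δ χ ≤ -1 := by
    intro χ hχ
    by_contra hnn
    have hδ0 : 0 ≤ δ χ := by omega
    set d : ℕ := 1 + r * (z * mult U χ θ₀) with hddef
    have hq' : (e : ℤ) + 1 = r * (z : ℤ) ^ 2 := by exact_mod_cast hq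
    have hd1 : (d : ℤ) = e + 1 + 1 + r * z * δ χ := by
      rw [hddef, hq']; simp only [hδ]; push_cast; ring
    have hD : (d : ℤ) ∣ ((e : ℤ) + 1) ^ 2 + 1 := by
      have := Int.natCast_dvd_natCast.mpr (hdiv χ hχ)
      push_cast at this ⊢
      exact this
    have hX : (d : ℤ) ∣ ((e : ℤ) + 1) * (r * δ χ ^ 2 - 2) := by
      have : ((e : ℤ) + 1) * (r * δ χ ^ 2 - 2) =
          (((e : ℤ) + 1) ^ 2 + 1) - (d : ℤ) * ((e : ℤ) + 1 + 1 - r * z * δ χ) := by
        rw [hd1, hq']; ring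
      rw [this]
      exact dvd_sub hD (dvd_mul_right _ _)
    have hco : IsCoprime (d : ℤ) ((e : ℤ) + 1) := by
      rw [show ((e : ℤ) + 1) = ((2 ^ n : ℕ) : ℤ) by rw [← hn]; push_cast; ring]
      refine Nat.isCoprime_iff_coprime.mpr (Nat.Coprime.pow_right _ (Nat.coprime_two_right.mpr ?_))
      rw [hddef]
      exact Even.one_add (hreven.mul_right _)
    have hY := hco.dvd_of_dvd_mul_left hX
    have hle : δ χ ^ 2 ≤ 1 + (z : ℤ) ^ 2 :=
      (Finset.single_le_sum (f := fun χ => δ χ ^ 2) (fun _ _ => sq_nonneg _) hχ).trans hsum2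
    rcases hδ0.eq_or_lt with h0 | h0
    · rw [← h0] at hd1 hY
      have := Int.le_of_dvd (by norm_num) (dvd_neg.mpr hY)
      norm_num at this
      simp only [mul_zero, add_zero] at hd1
      omega
    · have h1 : 1 ≤ δ χ ^ 2 := one_le_pow₀ (by omega)
      have hr4' : (4 : ℤ) ≤ r := by exact_mod_cast hr4
      have hz1 : (1 : ℤ) ≤ z := by exact_mod_cast charDegree_pos θ₀.2
      have hpos : 0 < (r : ℤ) * δ χ ^ 2 - 2 := by nlinarith
      have := Int.le_of_dvd hpos hY
      have h2 : (r : ℤ) * δ χ ^ 2 ≤ r * (1 + (z : ℤ) ^ 2) := mul_le_mul_of_nonneg_left hle (by positivity)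
      have h3 : (r : ℤ) * 1 ≤ r * (z * δ χ) :=
        mul_le_mul_of_nonneg_left (one_le_mul_of_one_le_of_one_le hz1 (by omega)) (by positivity)
      nlinarith
  have hfin := Finset.sum_le_card_nsmul R δ (-1) hneg
  rw [hsum1, hRc, nsmul_eq_mul] at hfin
  have hz1 : 1 ≤ z := charDegree_pos θ₀.2
  have h5 : 4 * z ^ 2 ≤ r * z ^ 2 := Nat.mul_le_mul_right _ hr4
  have h6 : P.card ≤ z := by
    have : (P.card : ℤ) ≤ z := by linarith
    exact_mod_cast this
  nlinarith

end Cfsg.Agent.Lib.SuzukiKernel
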