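import Cfsg.Agent.Lib.Char.FrobSchur
import Cfsg.Agent.Lib.Char.Degree

/-!
Multiplicities on a subgroup, indicators as integers, and orthogonality for linear characters of a
commutative quotient.
-/

set_option autoImplicit false

open scoped ComplexConjugate

namespace Cfsg.Agent.Lib.SuzukiKernel

open Cfsg.Agent.Lib.Char

universe u

variable {X : Type u} [Group X] [Fintype X]

/-- The trivial irreducible character. -/
noncomputable def triv : IrrCharacter X := ⟨fun _ => 1, isIrrCharacter_one⟩

/-- The complex conjugate character. -/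
noncomputable def cbar (χ : IrrCharacter X) : IrrCharacter X :=
  ⟨fun g => conj ((χ : X → ℂ) g), isIrrCharacter_conj χ.2⟩

theorem cbar_cbar (χ : IrrCharacter X) : cbar (cbar χ) = χ :=
  Subtype.ext (funext fun g => Complex.conj_conj _)

theorem deg_cast (χ : IrrCharacter X) : (χ : X → ℂ) 1 = (charDegree (χ : X → ℂ) : ℂ) :=
  apply_one_eq_charDegree (isCharacter_of_isIrr χ.2)

theorem deg_triv : charDegree ((triv : IrrCharacter X) : X → ℂ) = 1 :=
  charDegree_eq_of_apply_one (by simp [triv])

theorem deg_cbar (χ : IrrCharacter X) : charDegree (cbar χ : X → ℂ) = charDegree (χ : X → ℂ) :=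
  charDegree_eq_of_apply_one (by show conj ((χ : X → ℂ) 1) = _; rw [deg_cast, map_natCast])

/-- The Frobenius–Schur indicator as an integer. -/
noncomputable def fs (χ : IrrCharacter X) : ℤ :=
  if fsInd (χ : X → ℂ) = 1 then 1 else if fsInd (χ : X → ℂ) = -1 then -1 else 0

theorem fs_cast (χ : IrrCharacter X) : (fs χ : ℂ) = fsInd (χ : X → ℂ) := by
  rcases (fsInd_irr χ.2).1 with e | e | e <;> rw [fs, e] <;> norm_num

theorem fs_bounds (χ : IrrCharacter X) : -1 ≤ fs χ ∧ fs χ ≤ 1 := by
  unfold fs; split_ifs <;> norm_num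

theorem fs_eq_zero_iff (χ : IrrCharacter X) : fs χ = 0 ↔ cbar χ ≠ χ := by
  rw [← Int.cast_eq_zero (α := ℂ), fs_cast, (fsInd_irr χ.2).2]
  constructor
  · rintro ⟨s, hs⟩ e
    exact hs (Complex.conj_eq_iff_im.mp (congrFun (congrArg Subtype.val e) s))
  · intro h
    by_contra hno
    push Not at hno
    exact h (Subtype.ext (funext fun s => Complex.conj_eq_iff_im.mpr (hno s)))

theorem cbar_of_fs_one {χ : IrrCharacter X} (h : fs χ = 1) : cbar χ = χ := by
  by_contra e
  exact absurd ((fs_eq_zero_iff χ).mpr e) (by omega)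

open scoped _root_.Classical in
/-- The number of square roots. -/
noncomputable def roots (x : X) : ℕ := (Finset.univ.filter fun s : X => s * s = x).card

theorem roots_cast (x : X) :
    (roots x : ℂ) = ∑ χ : IrrCharacter X, (fs χ : ℂ) * (χ : X → ℂ) x := by
  simp only [fs_cast]
  exact card_sqrt_eq_sum x

theorem classInner_roots (θ : IrrCharacter X) :
    classInner (fun x => (roots x : ℂ)) (θ : X → ℂ) = (fs θ : ℂ) := by
  classical
  rw [show (fun x : X => (roots x : ℂ)) = ∑ χ : IrrCharacter X, (fs χ : ℂ) • (χ : X → ℂ) from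
    funext fun x => by rw [roots_cast, Finset.sum_apply]; rfl, classInner_sum_left,
    Finset.sum_eq_single θ]
  · rw [classInner_smul_left, classInner_irr_self θ.2, mul_one]
  · intro χ _ hne
    rw [classInner_smul_left, classInner_irrCharacter, if_neg hne, mul_zero]
  · simp

/-- `∑ ν(χ) χ(1)` is the number of solutions of `s * s = 1`. -/
theorem sum_fs_deg :
    ∑ χ : IrrCharacter X, fs χ * (charDegree (χ : X → ℂ) : ℤ) = (roots (1 : X) : ℤ) := by
  have := roots_cast (1 : X)
  simp only [deg_cast] at this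
  exact_mod_cast this.symm

theorem sum_fs_sq :
    (∑ χ : IrrCharacter X, fs χ ^ 2 : ℂ) =
      (Nat.card X : ℂ)⁻¹ * ∑ x : X, (roots x : ℂ) * roots x := by
  have hcf : IsClassFunction X fun x => (roots x : ℂ) := by
    intro g h
    simp only [roots_cast, isClassFunction_of_isIrr (Subtype.prop _) g h]
  have h := classInner_eq_sum (φ := fun x : X => (roots x : ℂ)) hcf
  simp only [classInner_roots, map_intCast] at h
  simp only [classInner, map_natCast] at h
  rw [h]
  exact Finset.sum_congr rfl fun χ _ => pow_two _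

section Quot

variable (A : Subgroup X) [A.Normal] [IsMulCommutative (X ⧸ A)]

open scoped _root_.Classical in
/-- Second orthogonality for the linear characters trivial on `A`. -/
theorem sum_hom_quot [Fintype (X ⧸ A →* ℂˣ)] (x : X) :
    ∑ m : X ⧸ A →* ℂˣ, (m (x : X ⧸ A) : ℂ) = if x ∈ A then (A.index : ℂ) else 0 := by
  letI : CommGroup (X ⧸ A) :=
    { (inferInstance : Group (X ⧸ A)) with mul_comm := fun a b => IsMulCommutative.is_comm.comm a b }
  haveI : NeZero (Monoid.exponent (X ⧸ A)) := ⟨Monoid.exponent_ne_zero_of_finite⟩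
  haveI : NeZero (Monoid.exponent (X ⧸ A) : ℂ) := NeZero.charZero
  split_ifs with hx
  · rw [(QuotientGroup.eq_one_iff x).mpr hx]
    simp only [map_one, Units.val_one, Finset.sum_const, Finset.card_univ, nsmul_eq_mul, mul_one]
    rw [← Nat.card_eq_fintype_card, CommGroup.card_monoidHom_of_hasEnoughRootsOfUnity]
    rfl
  · obtain ⟨m₀, hm₀⟩ := CommGroup.exists_apply_ne_one_of_hasEnoughRootsOfUnity (X ⧸ A) ℂ
      (mt (QuotientGroup.eq_one_iff x).mp hx)
    set S := ∑ m : X ⧸ A →* ℂˣ, (m (x : X ⧸ A) : ℂ)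
    have e : (m₀ (x : X ⧸ A) : ℂ) * S = S := by
      rw [Finset.mul_sum]
      exact Fintype.sum_equiv (Equiv.mulLeft m₀) _ _ fun m => by simp
    have : ((m₀ (x : X ⧸ A) : ℂ) - 1) * S = 0 := by rw [sub_mul, e, one_mul, sub_self]
    exact (mul_eq_zero.mp this).resolve_left
      (sub_ne_zero.mpr fun e => hm₀ (Units.ext e))

end Quot

section Mult

variable (H : Subgroup X)

theorem exists_mult [Fintype H] (χ : IrrCharacter X) (θ : IrrCharacter H) :
    ∃ n : ℕ, classInner (fun h : H => (χ : X → ℂ) h) (θ : H → ℂ) = n :=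
  classInner_natCast (isCharacter_restrict (isCharacter_of_isIrr χ.2) H) (isCharacter_of_isIrr θ.2)

/-- The multiplicity of `θ` in the restriction of `χ`. -/
noncomputable def mult [Fintype H] (χ : IrrCharacter X) (θ : IrrCharacter H) : ℕ :=
  (exists_mult H χ θ).choose

variable [Fintype H]

theorem mult_spec (χ : IrrCharacter X) (θ : IrrCharacter H) :
    classInner (fun h : H => (χ : X → ℂ) h) (θ : H → ℂ) = (mult H χ θ : ℂ) :=
  (exists_mult H χ θ).choose_spec

theorem restrict_eq (χ : IrrCharacter X) (h : H) :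
    (χ : X → ℂ) h = ∑ θ : IrrCharacter H, (mult H χ θ : ℂ) * (θ : H → ℂ) h := by
  have e := congrFun (eq_sum_classInner_smul (φ := fun h : H => (χ : X → ℂ) h)
    (isClassFunction_of_isCharacter (isCharacter_restrict (isCharacter_of_isIrr χ.2) H))) h
  simp only [mult_spec, Finset.sum_apply, Pi.smul_apply, smul_eq_mul] at e
  exact e

theorem deg_eq_sum (χ : IrrCharacter X) :
    charDegree (χ : X → ℂ) = ∑ θ : IrrCharacter H, mult H χ θ * charDegree (θ : H → ℂ) := by
  have e := restrict_eq H χ 1
  simp only [OneMemClass.coe_one, deg_cast] at e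
  exact_mod_cast e

theorem mult_cbar (χ : IrrCharacter X) (θ : IrrCharacter H) :
    mult H (cbar χ) (cbar θ) = mult H χ θ := by
  have e := congrArg (starRingEnd ℂ) (mult_spec H χ θ)
  simp only [classInner, map_mul, map_sum, map_inv₀, map_natCast] at e
  have e' := mult_spec H (cbar χ) (cbar θ)
  simp only [classInner, cbar] at e'
  exact_mod_cast e'.symm.trans e

theorem mult_cbar_right (χ : IrrCharacter X) (θ : IrrCharacter H) :
    mult H χ (cbar θ) = mult H (cbar χ) θ := by
  conv_lhs => rw [← cbar_cbar χ]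
  exact mult_cbar H _ _

theorem sum_mult_mul_mult (θ θ' : IrrCharacter H) :
    (∑ χ : IrrCharacter X, (mult H χ θ * mult H χ θ' : ℕ) : ℂ) =
      classInner (θ : H → ℂ) (fun h : H => indFun H (θ' : H → ℂ) h) := by
  have key : ∀ (ξ : IrrCharacter H) (χ : IrrCharacter X),
      classInner (indFun H (ξ : H → ℂ)) (χ : X → ℂ) = (mult H χ ξ : ℂ) := fun ξ χ => by
    rw [classInner_indFun H _ (isClassFunction_of_isIrr χ.2), classInner_conj_symm, mult_spec,
      map_natCast]
  rw [← classInner_indFun H _ (isClassFunction_indFun H _),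
    classInner_eq_sum (isClassFunction_indFun H _)]
  simp only [key, map_natCast, Nat.cast_mul]

theorem sum_fs_mult (θ : IrrCharacter H) :
    (∑ χ : IrrCharacter X, fs χ * (mult H χ θ : ℤ) : ℂ) =
      classInner (fun h : H => (roots (h : X) : ℂ)) (θ : H → ℂ) := by
  classical
  rw [show (fun h : H => (roots (h : X) : ℂ)) =
    ∑ χ : IrrCharacter X, (fs χ : ℂ) • (fun h : H => (χ : X → ℂ) h) from
    funext fun h => by rw [roots_cast, Finset.sum_apply]; rfl, classInner_sum_left]
  exact Finset.sum_congr rfl fun χ _ => by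
    rw [classInner_smul_left, mult_spec, Int.cast_natCast]

end Mult

end Cfsg.Agent.Lib.SuzukiKernel
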