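import Cfsg.Agent.Lib.SuzukiKernel.Group
import Cfsg.Agent.Lib.SuzukiKernel.Basic

/-!
Multiplicities of the irreducible characters of the kernel in those of the group: the Gram matrix and the
Frobenius–Schur count.
-/

set_option autoImplicit false
set_option linter.style.haveILetI false

open scoped ComplexConjugate

namespace Cfsg.Agent.Lib.SuzukiKernel

open MulAction Cfsg.Agent.Lib.Char Cfsg.Agent.Lib.Zass Cfsg.Agent.Lib.ZassFrob

universe u v

variable {G : Type u} {Ω : Type v} [Group G] [MulAction G Ω]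
variable {U : Subgroup G} {a b : Ω}

/-- Conjugation of a character of the kernel by an element of the two-point stabiliser. -/
noncomputable def tw [Fintype U] (hK : IsKernel U a b) (d : ↥(stabilizer G a ⊓ stabilizer G b)) (θ : IrrCharacter U) :
    IrrCharacter U :=
  ⟨(θ : U → ℂ) ∘ hK.conjU d, isIrrCharacter_comp θ.2 (hK.conjU d) (hK.conjU_surjective d)⟩

variable [Fintype U]

theorem conjU_bijective [Finite G] (hK : IsKernel U a b) (d : ↥(stabilizer G a ⊓ stabilizer G b)) :
    Function.Bijective (hK.conjU d) :=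
  ⟨Finite.injective_iff_surjective.mpr (hK.conjU_surjective d), hK.conjU_surjective d⟩

theorem tw_tw (hK : IsKernel U a b) (g k : ↥(stabilizer G a ⊓ stabilizer G b)) (θ : IrrCharacter U) :
    tw hK g (tw hK k θ) = tw hK (g * k) θ :=
  Subtype.ext (funext fun u => congrArg (θ : U → ℂ) (hK.conjU_conjU g k u))

theorem tw_one (hK : IsKernel U a b) (θ : IrrCharacter U) : tw hK 1 θ = θ :=
  Subtype.ext (funext fun u => congrArg (θ : U → ℂ) (hK.conjU_one u))

theorem tw_triv (hK : IsKernel U a b) (d : ↥(stabilizer G a ⊓ stabilizer G b)) :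
    tw hK d (triv : IrrCharacter U) = triv := rfl

theorem tw_cbar (hK : IsKernel U a b) (d : ↥(stabilizer G a ⊓ stabilizer G b)) (θ : IrrCharacter U) :
    tw hK d (cbar θ) = cbar (tw hK d θ) := rfl

theorem deg_tw (hK : IsKernel U a b) (d : ↥(stabilizer G a ⊓ stabilizer G b)) (θ : IrrCharacter U) :
    charDegree (tw hK d θ : U → ℂ) = charDegree (θ : U → ℂ) :=
  charDegree_eq_of_apply_one (by
    show (θ : U → ℂ) (hK.conjU d 1) = _
    rw [map_one, deg_cast])

theorem fs_tw [Finite G] (hK : IsKernel U a b) (d : ↥(stabilizer G a ⊓ stabilizer G b))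
    (θ : IrrCharacter U) : fs (tw hK d θ) = fs θ := by
  have e : fsInd (tw hK d θ : U → ℂ) = fsInd (θ : U → ℂ) := by
    simp only [fsInd]
    congr 1
    exact Fintype.sum_bijective _ (conjU_bijective hK d) _ _ fun s => by
      show (θ : U → ℂ) (hK.conjU d (s * s)) = _
      rw [map_mul]
  simp only [fs, e]

theorem mult_tw [Fintype G] (hK : IsKernel U a b) (d : ↥(stabilizer G a ⊓ stabilizer G b))
    (χ : IrrCharacter G) (θ : IrrCharacter U) : mult U χ (tw hK d θ) = mult U χ θ := by
  have e := mult_spec U χ θ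
  have e' := mult_spec U χ (tw hK d θ)
  suffices h : classInner (fun u : U => (χ : G → ℂ) u) (tw hK d θ : U → ℂ) =
      classInner (fun u : U => (χ : G → ℂ) u) (θ : U → ℂ) by
    rw [e, e'] at h
    exact_mod_cast h
  simp only [classInner]
  congr 1
  refine Fintype.sum_bijective _ (conjU_bijective hK d) _ _ fun u => ?_
  congr 1
  show (χ : G → ℂ) u = (χ : G → ℂ) ((d : G)⁻¹ * u * d)
  conv_rhs => rw [show (d : G)⁻¹ * u * d = (d : G)⁻¹ * u * ((d : G)⁻¹)⁻¹ by rw [inv_inv],
    isClassFunction_of_isIrr χ.2]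

section Zass

variable [Fintype G] [Finite Ω] [Fintype ↥(stabilizer G a ⊓ stabilizer G b)]

theorem tw_eq_self (hK : IsKernel U a b) (hZ : IsZassenhausGroup G Ω) {θ : IrrCharacter U}
    (hθ : θ ≠ triv) {d : ↥(stabilizer G a ⊓ stabilizer G b)} (e : tw hK d θ = θ) : d = 1 := by
  by_contra hd
  exact hθ (Subtype.ext (hK.irr_free hZ hd θ (congrArg Subtype.val e)))

theorem tw_inj (hK : IsKernel U a b) (hZ : IsZassenhausGroup G Ω) {θ : IrrCharacter U}
    (hθ : θ ≠ triv) {g k : ↥(stabilizer G a ⊓ stabilizer G b)} (e : tw hK g θ = tw hK k θ) : g = k := by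
  have := congrArg (tw hK k⁻¹) e
  rw [tw_tw, tw_tw, inv_mul_cancel, tw_one] at this
  exact (inv_mul_eq_one.mp (tw_eq_self hK hZ hθ this)).symm

omit [Fintype G] [Fintype ↥(stabilizer G a ⊓ stabilizer G b)] in
theorem decomp (hK : IsKernel U a b) {g : G} (hg : g • a = a) :
    ∃ (u : U) (d : ↥(stabilizer G a ⊓ stabilizer G b)), g = u * d := by
  obtain ⟨u, hu, -⟩ := hK.reg (g • b) fun e =>
    hK.ne (MulAction.injective g (hg.trans e.symm))
  refine ⟨u, ⟨(u : G)⁻¹ * g, (stabilizer G a).mul_mem ((stabilizer G a).inv_mem (hK.le u.2)) hg, ?_⟩,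
    (mul_inv_cancel_left _ _).symm⟩
  show ((u : G)⁻¹ * g) • b = b
  rw [mul_smul, ← hu, inv_smul_smul]

theorem card_G (hK : IsKernel U a b) (hZ : IsZassenhausGroup G Ω) :
    Nat.card G = (Nat.card U + 1) * Nat.card U * Nat.card ↥(stabilizer G a ⊓ stabilizer G b) := by
  rw [card_group hZ hK.ne, ← hK.card_eq, Nat.add_sub_cancel]

theorem index_kernel (hK : IsKernel U a b) (hZ : IsZassenhausGroup G Ω) :
    U.index = (Nat.card U + 1) * Nat.card ↥(stabilizer G a ⊓ stabilizer G b) := by
  refine Nat.eq_of_mul_eq_mul_left (Nat.card_pos (α := U)) ?_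
  rw [Subgroup.card_mul_index, card_G hK hZ]
  ring

open scoped _root_.Classical in
/-- Restriction to the kernel of a character induced from it. -/
theorem indFun_restrict (hK : IsKernel U a b) (hZ : IsZassenhausGroup G Ω) (θ : IrrCharacter U)
    (u : U) :
    indFun U (θ : U → ℂ) u = ∑ d : ↥(stabilizer G a ⊓ stabilizer G b), (tw hK d θ : U → ℂ) u +
      if u = 1 then (Nat.card ↥(stabilizer G a ⊓ stabilizer G b) * Nat.card U * charDegree (θ : U → ℂ) : ℂ) else 0 := by
  split_ifs with hu
  · subst hu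
    simp only [OneMemClass.coe_one, indFun_one, deg_cast, deg_tw, index_kernel hK hZ,
      Finset.sum_const, Finset.card_univ, nsmul_eq_mul, ← Nat.card_eq_fintype_card]
    push_cast
    ring
  rw [add_zero]
  have hu' : (u : G) ≠ 1 := fun e => hu (Subtype.ext e)
  have hinj : Function.Injective fun p : U × ↥(stabilizer G a ⊓ stabilizer G b) => (p.1 : G) * (p.2 : G) := by
    rintro ⟨w, d⟩ ⟨w', d'⟩ e
    have e' : (w : G) * d = w' * d' := e
    have h1 : (w' : G)⁻¹ * w = d' * (d : G)⁻¹ := by
      rw [eq_mul_inv_iff_mul_eq, mul_assoc, e', inv_mul_cancel_left]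
    have h2 := hK.disj (mul_mem (inv_mem w'.2) w.2) (by
      rw [h1]; exact ((stabilizer G a ⊓ stabilizer G b).mul_mem d'.2 (inv_mem d.2)).2)
    have hw : w = w' := Subtype.ext (inv_mul_eq_one.mp h2).symm
    subst hw
    exact Prod.ext rfl (Subtype.ext (mul_left_cancel e'))
  have hsum : ∑ x : G, extendByZero U (θ : U → ℂ) (x⁻¹ * u * x) =
      ∑ p : U × ↥(stabilizer G a ⊓ stabilizer G b), (tw hK p.2 θ : U → ℂ) u := by
    refine (Fintype.sum_of_injective _ hinj _ _ (fun x hx => ?_) fun p => ?_).symm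
    · rw [extendByZero_not_mem]
      intro hm
      have hxa : x • a = a := hK.fix_only u.2 hu' (by
        have : (x⁻¹ * (u : G) * x) • a = a := hK.le hm
        rwa [mul_smul, mul_smul, inv_smul_eq_iff] at this)
      obtain ⟨w, d, e⟩ := decomp hK hxa
      exact hx ⟨(w, d), e.symm⟩
    · have e : ((p.1 : G) * p.2)⁻¹ * u * ((p.1 : G) * p.2) =
          ((hK.conjU p.2 (p.1⁻¹ * u * p.1) : U) : G) := by
        show _ = (p.2 : G)⁻¹ * ((p.1 : G)⁻¹ * u * p.1) * p.2
        group
      rw [e, extendByZero_coe]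
      show (θ : U → ℂ) (hK.conjU p.2 u) = (θ : U → ℂ) (hK.conjU p.2 (p.1⁻¹ * u * p.1))
      rw [map_mul, map_mul, map_inv]
      have := isClassFunction_of_isIrr θ.2 (hK.conjU p.2 u) (hK.conjU p.2 p.1)⁻¹
      rw [inv_inv] at this
      exact this.symm
  rw [indFun, hsum, Fintype.sum_prod_type]
  simp only [Finset.sum_const, Finset.card_univ, nsmul_eq_mul, ← Nat.card_eq_fintype_card]
  rw [← mul_assoc, inv_mul_cancel₀ (card_ne_zero_complex U), one_mul]

open scoped _root_.Classical in
/-- The Gram matrix. -/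
theorem gram (hK : IsKernel U a b) (hZ : IsZassenhausGroup G Ω) (θ θ' : IrrCharacter U) :
    ∑ χ : IrrCharacter G, mult U χ θ * mult U χ θ' =
      (Finset.univ.filter fun d : ↥(stabilizer G a ⊓ stabilizer G b) => tw hK d θ' = θ).card +
        Nat.card ↥(stabilizer G a ⊓ stabilizer G b) * charDegree (θ : U → ℂ) * charDegree (θ' : U → ℂ) := by
  have h := sum_mult_mul_mult U θ θ'
  rw [show (fun u : U => indFun U (θ' : U → ℂ) u) =
      ∑ d : ↥(stabilizer G a ⊓ stabilizer G b), (tw hK d θ' : U → ℂ) + fun u : U =>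
        if u = 1 then (Nat.card ↥(stabilizer G a ⊓ stabilizer G b) * Nat.card U * charDegree (θ' : U → ℂ) : ℂ) else 0 from
      funext fun u => by rw [indFun_restrict hK hZ, Pi.add_apply, Finset.sum_apply],
    classInner_add_right, classInner_sum_right] at h
  simp only [classInner_irrCharacter] at h
  have h2 : classInner (θ : U → ℂ) (fun u : U =>
      if u = 1 then (Nat.card ↥(stabilizer G a ⊓ stabilizer G b) * Nat.card U * charDegree (θ' : U → ℂ) : ℂ) else 0) =
      (Nat.card ↥(stabilizer G a ⊓ stabilizer G b) * charDegree (θ : U → ℂ) * charDegree (θ' : U → ℂ) : ℂ) := by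
    simp only [classInner, apply_ite (starRingEnd ℂ), map_mul, map_natCast, map_zero, mul_ite,
      mul_zero, Finset.sum_ite_eq', Finset.mem_univ, if_true, deg_cast]
    field_simp [card_ne_zero_complex U]
  rw [h2, ← Finset.sum_filter] at h
  simp only [Finset.sum_const, nsmul_eq_mul, mul_one] at h
  have : (∑ χ : IrrCharacter G, mult U χ θ * mult U χ θ') =
      (Finset.univ.filter fun d : ↥(stabilizer G a ⊓ stabilizer G b) => θ = tw hK d θ').card +
        Nat.card ↥(stabilizer G a ⊓ stabilizer G b) * charDegree (θ : U → ℂ) * charDegree (θ' : U → ℂ) := by exact_mod_cast h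
  rw [this]
  congr 2
  exact Finset.filter_congr fun d _ => eq_comm

theorem gram_conj (hK : IsKernel U a b) (hZ : IsZassenhausGroup G Ω) {θ : IrrCharacter U}
    (hθ : θ ≠ triv) (d : ↥(stabilizer G a ⊓ stabilizer G b)) :
    ∑ χ : IrrCharacter G, mult U χ θ * mult U χ (tw hK d θ) =
      1 + Nat.card ↥(stabilizer G a ⊓ stabilizer G b) * charDegree (θ : U → ℂ) * charDegree (θ : U → ℂ) := by
  classical
  rw [gram hK hZ, deg_tw]
  congr 1
  refine Finset.card_eq_one.mpr ⟨d⁻¹, Finset.ext fun k => ?_⟩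
  simp only [Finset.mem_filter, Finset.mem_univ, true_and, Finset.mem_singleton, tw_tw]
  constructor
  · exact fun e => eq_inv_of_mul_eq_one_left (tw_eq_self hK hZ hθ e)
  · rintro rfl; rw [inv_mul_cancel, tw_one]

theorem gram_not_conj (hK : IsKernel U a b) (hZ : IsZassenhausGroup G Ω) {θ θ' : IrrCharacter U}
    (h : ∀ d : ↥(stabilizer G a ⊓ stabilizer G b), tw hK d θ' ≠ θ) :
    ∑ χ : IrrCharacter G, mult U χ θ * mult U χ θ' =
      Nat.card ↥(stabilizer G a ⊓ stabilizer G b) * charDegree (θ : U → ℂ) * charDegree (θ' : U → ℂ) := by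
  classical
  rw [gram hK hZ, Finset.card_eq_zero.mpr (Finset.filter_eq_empty_iff.mpr fun d _ => h d), zero_add]

theorem gram_triv (hK : IsKernel U a b) (hZ : IsZassenhausGroup G Ω) {θ : IrrCharacter U}
    (hθ : θ ≠ triv) :
    ∑ χ : IrrCharacter G, mult U χ θ * mult U χ triv = Nat.card ↥(stabilizer G a ⊓ stabilizer G b) * charDegree (θ : U → ℂ) := by
  rw [gram_not_conj hK hZ fun d => by rw [tw_triv]; exact hθ.symm, deg_triv, mul_one]

end Zass

section Sqrt

variable [Fintype G] [Finite Ω] [IsSimpleGroup G]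

theorem roots_restrict (h : Ker U a b) (u : U) (hu : u ≠ 1) : roots (u : G) = roots u := by
  classical
  have hu' : (u : G) ≠ 1 := fun e => hu (Subtype.ext e)
  rw [roots, roots]
  refine (Finset.card_bij (fun (s : U) _ => (s : G)) (fun s hs => ?_)
    (fun s _ t _ e => Subtype.ext e) fun x hx => ?_).symm
  · simp only [Finset.mem_filter, Finset.mem_univ, true_and] at hs ⊢
    exact congrArg Subtype.val hs
  · simp only [Finset.mem_filter, Finset.mem_univ, true_and] at hx
    have hx' := hx
    refine ⟨⟨x, h.mem_of_sq_mem (hx' ▸ u.2) (hx' ▸ hu')⟩, ?_, rfl⟩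
    simp only [Finset.mem_filter, Finset.mem_univ, true_and]
    exact Subtype.ext hx'

theorem roots_one (h : Ker U a b) :
    roots (1 : G) + Nat.card Ω = Nat.card Ω * roots (1 : U) + 1 := by
  classical
  haveI := Fintype.ofFinite Ω
  obtain ⟨v, -, hS⟩ := h.exists_setup
  choose g hg using fun c : Ω => RankOne.exists_move hS a c
  let S : Finset U := (Finset.univ.filter fun s : U => s * s = 1).erase 1
  let T : Finset G := (Finset.univ.filter fun s : G => s * s = 1).erase 1
  have hS1 : S.card + 1 = roots (1 : U) := by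
    simp only [roots, S]; convert Finset.card_erase_add_one ?_ using 4; simp
  have hT1 : T.card + 1 = roots (1 : G) := by
    simp only [roots, T]; convert Finset.card_erase_add_one ?_ using 4; simp
  have hST : T.card = Nat.card Ω * S.card := by
    rw [Nat.card_eq_fintype_card, ← Finset.card_univ, ← Finset.card_product]
    refine (Finset.card_bij (fun (p : Ω × U) _ => g p.1 * p.2 * (g p.1)⁻¹) ?_ ?_ ?_).symm
    · rintro ⟨c, y⟩ hp
      simp only [Finset.mem_product, S, Finset.mem_erase, Finset.mem_filter, Finset.mem_univ,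
        true_and] at hp
      simp only [T, Finset.mem_erase, Finset.mem_filter, Finset.mem_univ, true_and]
      refine ⟨fun e => hp.1 (Subtype.ext (conj_eq_one_iff.mp e)), ?_⟩
      rw [show g c * (y : G) * (g c)⁻¹ * (g c * y * (g c)⁻¹) = g c * ((y : G) * y) * (g c)⁻¹ by
        group, show (y : G) * y = 1 from congrArg Subtype.val hp.2, mul_one, mul_inv_cancel]
    · rintro ⟨c, y⟩ hp ⟨c', y'⟩ hp' e
      simp only [Finset.mem_product, S, Finset.mem_erase, Finset.mem_filter, Finset.mem_univ,
        true_and] at hp hp'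
      simp only at e
      have hy' : (y' : G) ≠ 1 := fun e => hp'.1 (Subtype.ext e)
      have hfix : ((g c')⁻¹ • c) = a := by
        refine h.kernel.fix_only y'.2 hy' ?_
        have : (g c' * (y' : G) * (g c')⁻¹) • c = c := by
          rw [← e, mul_smul, mul_smul, inv_smul_eq_iff.mpr (hg c).symm, h.kernel.le y.2, hg c]
        rwa [mul_smul, mul_smul, ← eq_inv_smul_iff] at this
      have hc : c = c' := by
        rw [inv_smul_eq_iff] at hfix
        rw [hfix, hg c']
      subst hc
      exact Prod.ext rfl (Subtype.ext (by simpa using e))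
    · intro s hs
      simp only [T, Finset.mem_erase, Finset.mem_filter, Finset.mem_univ, true_and] at hs
      obtain ⟨c, hc, -⟩ := RankOne.fix_unique hS hs.1 hs.2
      have h1 : ((g c)⁻¹ * s * g c) * ((g c)⁻¹ * s * g c) = 1 := by
        rw [show (g c)⁻¹ * s * g c * ((g c)⁻¹ * s * g c) = (g c)⁻¹ * (s * s) * g c by group, hs.2,
          mul_one, inv_mul_cancel]
      have h2 : (g c)⁻¹ * s * g c ∈ U := h.invol_mem (by
        rw [mul_smul, mul_smul, hg c, hc, inv_smul_eq_iff, hg c]) h1
      refine ⟨(c, ⟨_, h2⟩), ?_, by show g c * ((g c)⁻¹ * s * g c) * (g c)⁻¹ = s; group⟩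
      simp only [Finset.mem_product, S, Finset.mem_erase, Finset.mem_filter, Finset.mem_univ,
        true_and]
      refine ⟨fun e => hs.1 ?_, Subtype.ext h1⟩
      have e' : (g c)⁻¹ * s * g c = 1 := congrArg Subtype.val e
      rw [show s = g c * ((g c)⁻¹ * s * g c) * (g c)⁻¹ by group, e', mul_one, mul_inv_cancel]
  rw [← hT1, ← hS1, hST]
  ring

/-- The Frobenius–Schur count on the kernel. -/
theorem fs_mult (h : Ker U a b) (θ : IrrCharacter U) :
    ∑ χ : IrrCharacter G, fs χ * (mult U χ θ : ℤ) =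
      fs θ + ((roots (1 : U) - 1 : ℕ) : ℤ) * charDegree (θ : U → ℂ) := by
  classical
  have h1 := roots_one h
  have hc := h.card_kernel
  have hr : 1 ≤ roots (1 : U) := Finset.card_pos.mpr ⟨1, by simp⟩
  obtain ⟨k, hk⟩ : ∃ k, roots (1 : U) = k + 1 := ⟨roots (1 : U) - 1, by omega⟩
  have hG : roots (1 : G) = roots (1 : U) + Nat.card U * k := by
    rw [← hc, hk] at h1
    rw [hk]; nlinarith
  have e := sum_fs_mult U θ
  rw [show (fun u : U => (roots (u : G) : ℂ)) = (fun u : U => (roots u : ℂ)) +
      fun u : U => if u = 1 then (Nat.card U * k : ℂ) else 0 from funext fun u => by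
        by_cases hu : u = 1
        · subst hu; rw [Pi.add_apply, if_pos rfl, OneMemClass.coe_one, hG]; push_cast; rfl
        · rw [Pi.add_apply, if_neg hu, add_zero, roots_restrict h u hu],
    classInner_add_left, classInner_roots] at e
  have h2 : classInner (fun u : U => if u = 1 then (Nat.card U * k : ℂ) else 0) (θ : U → ℂ) =
      (k * charDegree (θ : U → ℂ) : ℂ) := by
    simp only [classInner, ite_mul, zero_mul, Finset.sum_ite_eq', Finset.mem_univ, if_true, deg_cast,
      map_natCast]
    field_simp [card_ne_zero_complex U]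
  rw [h2] at e
  rw [hk, Nat.add_sub_cancel]
  exact_mod_cast e

end Sqrt

end Cfsg.Agent.Lib.SuzukiKernel
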