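import Cfsg.Agent.Lib.Zass.Feit
import Cfsg.Agent.Lib.RankOne.Basic
import Cfsg.Agent.Lib.SuzukiTwo.TypeA
import Cfsg.Agent.S0345

/-!
A nonabelian 2-kernel of a simple Zassenhaus group is a Suzuki 2-group under the two-point stabiliser.
-/

set_option autoImplicit false
set_option linter.style.haveILetI false

namespace Cfsg.Agent.Lib.SuzukiKernel

open MulAction Cfsg.Agent.Lib.Zass Cfsg.Agent.Lib.ZassFrob

variable {G Ω : Type*} [Group G] [MulAction G Ω]

/-- The setting: a Zassenhaus group with a nonabelian kernel which is a 2-group. -/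
structure Ker (U : Subgroup G) (a b : Ω) : Prop where
  zass : IsZassenhausGroup G Ω
  kernel : IsKernel U a b
  two : IsPGroup 2 U
  nonab : ∃ u ∈ U, ∃ v ∈ U, u * v ≠ v * u

variable {U : Subgroup G} {a b : Ω}

/-- Conjugation of the kernel by the two-point stabiliser. -/
abbrev act (hK : IsKernel U a b) : MulDistribMulAction ↥(stabilizer G a ⊓ stabilizer G b) U where
  smul d u := ⟨(d : G) * u * (d : G)⁻¹, hK.conj d d.2.1 u u.2⟩
  one_smul u := Subtype.ext (by show (1 : G) * u * (1 : G)⁻¹ = u; group)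
  mul_smul x y u := Subtype.ext (by
    show (x : G) * y * u * ((x : G) * y)⁻¹ = x * (y * u * (y : G)⁻¹) * (x : G)⁻¹; group)
  smul_mul d u v := Subtype.ext (by
    show (d : G) * (u * v) * (d : G)⁻¹ = d * u * (d : G)⁻¹ * (d * v * (d : G)⁻¹); group)
  smul_one d := Subtype.ext (by show (d : G) * 1 * (d : G)⁻¹ = 1; group)

variable [Finite G] [Finite Ω]

namespace Ker

variable (h : Ker U a b)
include h

omit [Finite G] in
theorem card_kernel : Nat.card U + 1 = Nat.card Ω := h.kernel.card_eq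

theorem exists_pow_two : ∃ m, 1 ≤ m ∧ Nat.card U = 2 ^ m := by
  haveI : Fact (Nat.Prime 2) := ⟨Nat.prime_two⟩
  obtain ⟨m, hm⟩ := IsPGroup.iff_card.mp h.two
  refine ⟨m, ?_, hm⟩
  have := two_lt_card h.zass h.kernel.ne
  have := h.card_kernel
  rcases m with _ | m
  · rw [pow_zero] at hm; omega
  · omega

theorem odd_twoPt : Odd (Nat.card ↥(stabilizer G a ⊓ stabilizer G b)) := by
  obtain ⟨m, hm1, hm⟩ := h.exists_pow_two
  have hc := h.card_kernel
  have hd := card_twoPt_dvd h.zass h.kernel.ne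
  refine Odd.of_dvd_nat ?_ hd
  obtain ⟨k, rfl⟩ : ∃ k, m = k + 1 := ⟨m - 1, by omega⟩
  rw [pow_succ] at hm
  refine Nat.odd_iff.mpr ?_
  have : 0 < 2 ^ k := by positivity
  omega

variable [IsSimpleGroup G]

theorem cyclic_twoPt : IsCyclic ↥(stabilizer G a ⊓ stabilizer G b) :=
  (S0345.result h.zass h.kernel.ne).1

theorem exists_setup : ∃ v : G, v • a = b ∧ IsRankOneSetup G Ω a v U := by
  obtain ⟨-, v, hv, hva, hvb, -⟩ := S0345.result h.zass h.kernel.ne
  refine ⟨v, hva, ?_⟩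
  have hK := h.kernel
  refine ⟨h.zass.2.1, ?_, fun e => ?_, fun e => hK.ne ?_, hK.le, hK.conj, ?_, ?_, ?_, ?_⟩
  · rw [← sq, ← hv, pow_orderOf_eq_one]
  · simp [e] at hv
  · rw [← hva]; exact (e : v • a = a).symm
  · rw [hva, eq_bot_iff]
    exact fun x hx => hK.disj hx.1 hx.2
  · rw [hva]
    refine le_antisymm (sup_le hK.le inf_le_left) fun g hg => ?_
    obtain ⟨u, hu, -⟩ := hK.reg (g • b) fun e =>
      hK.ne (MulAction.injective g ((hg : g • a = a).trans e.symm))
    have hd : (u : G)⁻¹ * g ∈ stabilizer G a ⊓ stabilizer G b :=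
      ⟨(stabilizer G a).mul_mem ((stabilizer G a).inv_mem (hK.le u.2)) hg, by
        show ((u : G)⁻¹ * g) • b = b
        rw [mul_smul, ← hu, inv_smul_smul]⟩
    rw [← mul_inv_cancel_left (u : G) g]
    exact mul_mem (Subgroup.mem_sup_left u.2) (Subgroup.mem_sup_right hd)
  · obtain ⟨m, hm1, hm⟩ := h.exists_pow_two
    rw [hm]; exact (Nat.even_pow' (by omega)).mpr even_two
  · rw [hva]; exact h.odd_twoPt

theorem invol_mem {s : G} (hs : s • a = a) (h2 : s * s = 1) : s ∈ U := by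
  obtain ⟨v, -, hS⟩ := h.exists_setup
  exact RankOne.mem_Q_of_invol hS hs h2

/-- Square roots of nontrivial elements of the kernel lie in the kernel. -/
theorem mem_of_sq_mem {s : G} (hs : s * s ∈ U) (h1 : s * s ≠ 1) : s ∈ U := by
  obtain ⟨v, hva, hS⟩ := h.exists_setup
  have hfix : s • a = a := by
    refine h.kernel.fix_only hs h1 ?_
    have e : (s * s) • a = a := h.kernel.le hs
    rw [smul_smul, show s * s * s = s * (s * s) by group, mul_smul, e]
  exact RankOne.mem_Q_of_pow hS hfix (n := 2) (Nat.coprime_two_left.mpr hS.odd_card)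
    (by rwa [pow_two])

/-- The involutions of the kernel are conjugate under the two-point stabiliser. -/
theorem data :
    letI : CommGroup ↥(stabilizer G a ⊓ stabilizer G b) := @IsCyclic.commGroup _ _ h.cyclic_twoPt
    letI := act h.kernel
    SuzukiTwo.Data ↥(stabilizer G a ⊓ stabilizer G b) U := by
  letI : CommGroup ↥(stabilizer G a ⊓ stabilizer G b) := @IsCyclic.commGroup _ _ h.cyclic_twoPt
  letI := act h.kernel
  obtain ⟨v, hva, hS⟩ := h.exists_setup
  haveI : Fact (Nat.Prime 2) := ⟨Nat.prime_two⟩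
  obtain ⟨m, hm1, hm⟩ := h.exists_pow_two
  haveI : Nontrivial U := Finite.one_lt_card_iff_nontrivial.mp (hm ▸ Nat.one_lt_two_pow (by omega))
  haveI := h.two.center_nontrivial
  obtain ⟨⟨z, hzc⟩, hzo⟩ := exists_prime_orderOf_dvd_card' (G := Subgroup.center U) 2 (by
    obtain ⟨k, hk⟩ := IsPGroup.iff_card.mp (h.two.to_subgroup (Subgroup.center U))
    rw [hk]
    refine dvd_pow_self 2 fun hk0 => ?_
    have := Finite.one_lt_card (α := Subgroup.center U)
    rw [hk, hk0] at this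
    simp at this)
  rw [← Subgroup.orderOf_coe] at hzo
  simp only at hzo
  have hz1 : z ≠ 1 := fun e => by simp [e] at hzo
  have hz2 : z * z = 1 := by rw [← pow_two, ← hzo, pow_orderOf_eq_one]
  have hz1' : (z : G) ≠ 1 := fun e => hz1 (Subtype.ext e)
  have hz2' : (z : G) * z = 1 := congrArg Subtype.val hz2
  have key : ∀ y : U, y ≠ 1 → y * y = 1 →
      ∃ d : ↥(stabilizer G a ⊓ stabilizer G b), d • z = y := by
    intro y hy1 hy2
    have hy1' : (y : G) ≠ 1 := fun e => hy1 (Subtype.ext e)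
    have hy2' : (y : G) * y = 1 := congrArg Subtype.val hy2
    obtain ⟨g, hg⟩ := RankOne.invol_conj hS hz1' hz2' hy1' hy2'
    have hga : g • a = a := h.kernel.fix_only y.2 hy1' (by
      rw [← hg, mul_smul, mul_smul, inv_smul_smul, h.kernel.le z.2])
    obtain ⟨u, hu, d, hd, e⟩ := RankOne.decomp hS hga
    have hd' : d ∈ stabilizer G a ⊓ stabilizer G b := ⟨hd.1, by
      have := hd.2; rwa [hva] at this⟩
    have hc : (⟨d, hd'⟩ : ↥(stabilizer G a ⊓ stabilizer G b)) • z ∈ Subgroup.center U :=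
      SuzukiTwo.smul_mem_center _ hzc
    refine ⟨⟨d, hd'⟩, Subtype.ext ?_⟩
    have hc' : u * (d * (z : G) * d⁻¹) = d * (z : G) * d⁻¹ * u :=
      congrArg Subtype.val (Subgroup.mem_center_iff.mp hc ⟨u, hu⟩)
    show d * (z : G) * d⁻¹ = y
    rw [← hg, e, show u * d * (z : G) * (u * d)⁻¹ = u * (d * (z : G) * d⁻¹) * u⁻¹ by group, hc',
      mul_inv_cancel_right]
  have free : ∀ (d : ↥(stabilizer G a ⊓ stabilizer G b)) (y : U), y ≠ 1 → d • y = y → d = 1 := by
    intro d y hy e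
    by_contra hd
    exact hy (Subtype.ext (kernel_free h.kernel h.zass d.2 (fun e => hd (Subtype.ext e)) y.2
      (congrArg Subtype.val e)))
  refine ⟨h.two, fun x y hx hx2 hy hy2 => ?_, ?_⟩
  · obtain ⟨g, rfl⟩ := key x hx hx2
    obtain ⟨k, rfl⟩ := key y hy hy2
    refine ⟨k * g⁻¹, by show (k * g⁻¹) • g • z = _; rw [smul_smul, inv_mul_cancel_right],
      fun k' hk' => ?_⟩
    have hfix : (k⁻¹ * (k' * g)) • z = z := by
      rw [mul_smul, mul_smul, hk', inv_smul_smul]
    rw [eq_mul_inv_iff_mul_eq]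
    exact (inv_mul_eq_one.mp (free _ z hz1 hfix)).symm
  · by_contra hno
    push Not at hno
    refine twoPt_ne_bot h.zass h.kernel.ne ((Subgroup.eq_bot_iff_forall _).mpr fun d hd => ?_)
    set d' : ↥(stabilizer G a ⊓ stabilizer G b) := ⟨d, hd⟩
    refine congrArg Subtype.val (free d' z hz1 ?_ : d' = 1)
    by_contra hne
    refine hno (d' • z) z hne ?_ ?_ hz1 hz2
    · exact SuzukiTwo.smul_ne_one d' hz1
    · rw [← smul_mul', hz2, smul_one]

/-- Numerical consequences. -/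
theorem structure_facts : ∃ n, 2 ≤ n ∧ Nat.card ↥(stabilizer G a ⊓ stabilizer G b) + 1 = 2 ^ n ∧
    Nat.card (SuzukiTwo.Omega U) = 2 ^ n ∧
    (Nat.card U = (2 ^ n) ^ 2 ∨ Nat.card U = (2 ^ n) ^ 3) ∧
    commutator U = SuzukiTwo.Omega U ∧ (∀ y : U, y * y ∈ SuzukiTwo.Omega U) ∧
    (∀ y : U, y ∈ SuzukiTwo.Omega U ↔ y * y = 1) := by
  letI : CommGroup ↥(stabilizer G a ⊓ stabilizer G b) := @IsCyclic.commGroup _ _ h.cyclic_twoPt
  letI := act h.kernel
  have D := h.data
  obtain ⟨n, hn, hn2⟩ := D.exists_pow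
  obtain ⟨u, hu, v, hv, huv⟩ := h.nonab
  have hne : ∃ x y : U, x * y ≠ y * x := ⟨⟨u, hu⟩, ⟨v, hv⟩, fun e => huv (congrArg Subtype.val e)⟩
  have hO : Nat.card (SuzukiTwo.Omega U) = 2 ^ n := D.card_omega.trans hn2
  refine ⟨n, hn, hn2, hO, hO ▸ D.card_cases hne, ?_, (D.higman hne).1, fun y => D.mem_omega_iff⟩
  refine le_antisymm ?_ (D.omega_le SuzukiTwo.inv_commutator ?_)
  · rw [commutator_def, Subgroup.commutator_le]
    exact fun x _ y _ => D.commutator_mem hne x y
  · intro e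
    obtain ⟨x, y, hxy⟩ := hne
    refine hxy (commutatorElement_eq_one_iff_mul_comm.mp ((Subgroup.eq_bot_iff_forall _).mp e _ ?_))
    exact Subgroup.commutator_mem_commutator (Subgroup.mem_top x) (Subgroup.mem_top y)

theorem typeA (hsq : Nat.card U = Nat.card (SuzukiTwo.Omega U) ^ 2) :
    ∃ (F : Type) (_ : Field F) (_ : Fintype F) (φ : F ≃+* F),
      Fintype.card F = Nat.card (SuzukiTwo.Omega U) ∧
      Nonempty (U ≃* Cfsg.suzukiTypeA F (φ : F →+* F)) := by
  letI : CommGroup ↥(stabilizer G a ⊓ stabilizer G b) := @IsCyclic.commGroup _ _ h.cyclic_twoPt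
  letI := act h.kernel
  obtain ⟨u, hu, v, hv, huv⟩ := h.nonab
  obtain ⟨F, i1, i2, φ, h1, -, -, h2⟩ := h.data.exists_typeA
    ⟨⟨u, hu⟩, ⟨v, hv⟩, fun e => huv (congrArg Subtype.val e)⟩ hsq
  exact ⟨F, i1, i2, φ, h1, h2⟩

end Ker

end Cfsg.Agent.Lib.SuzukiKernel
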