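import Cfsg.Agent.Lib.SuzukiKernel.Chars

/-!
The rows met by a linear character of the kernel.
-/

set_option autoImplicit false
set_option linter.style.haveILetI false

namespace Cfsg.Agent.Lib.SuzukiKernel

open MulAction Cfsg.Agent.Lib.Char

universe u v

variable {G : Type u} {Ω : Type v} [Group G] [MulAction G Ω] [Fintype G]
variable {U : Subgroup G} {a b : Ω} [Fintype U]

open scoped _root_.Classical in
/-- The characters of the group containing a character of the kernel. -/
noncomputable def supp (θ : IrrCharacter U) : Finset (IrrCharacter G) :=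
  Finset.univ.filter fun χ => mult U χ θ ≠ 0

theorem mem_supp {θ : IrrCharacter U} {χ : IrrCharacter G} : χ ∈ supp θ ↔ mult U χ θ ≠ 0 := by
  simp [supp]

variable [Finite Ω] [IsSimpleGroup G] [Fintype ↥(stabilizer G a ⊓ stabilizer G b)]

theorem supp_tw (h : Ker U a b) (d : ↥(stabilizer G a ⊓ stabilizer G b)) (θ : IrrCharacter U) :
    supp (tw h.kernel d θ) = supp θ := by
  classical
  ext χ; rw [mem_supp, mem_supp, mult_tw]

omit [Fintype G] [Fintype ↥(stabilizer G a ⊓ stabilizer G b)] in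
theorem roots_kernel_one [Finite G] (h : Ker U a b) :
    roots (1 : U) = Nat.card ↥(stabilizer G a ⊓ stabilizer G b) + 1 := by
  classical
  obtain ⟨n, -, hn, hO, -, -, -, hmem⟩ := h.structure_facts
  rw [hn, ← hO, Nat.card_eq_fintype_card, Fintype.card_subtype, roots]
  congr 1
  ext y
  simp [hmem]

theorem fs_count (h : Ker U a b) (θ : IrrCharacter U) :
    ∑ χ : IrrCharacter G, fs χ * (mult U χ θ : ℤ) =
      fs θ + (Nat.card ↥(stabilizer G a ⊓ stabilizer G b) : ℤ) * charDegree (θ : U → ℂ) := by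
  rw [fs_mult h, roots_kernel_one h, Nat.add_sub_cancel]

omit [Fintype ↥(stabilizer G a ⊓ stabilizer G b)] in
theorem lin_apply_omega (h : Ker U a b) {θ : IrrCharacter U} (hθ : charDegree (θ : U → ℂ) = 1)
    {x : U} (hx : x ∈ SuzukiTwo.Omega U) : (θ : U → ℂ) x = 1 := by
  obtain ⟨n, -, -, -, -, hcomm, -, -⟩ := h.structure_facts
  obtain ⟨l, hl⟩ := exists_hom_of_degree_one (isCharacter_of_isIrr θ.2)
    ((charDegree_eq_one_iff θ.2).mp hθ)
  rw [hl, show l x = 1 from ?_, Units.val_one]
  exact (Abelianization.commutator_subset_ker l) (hcomm ▸ hx)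

omit [Fintype ↥(stabilizer G a ⊓ stabilizer G b)] in
theorem fs_linear (h : Ker U a b) {θ : IrrCharacter U} (hθ : charDegree (θ : U → ℂ) = 1) :
    fs θ = 1 := by
  obtain ⟨n, -, -, -, -, -, hsq, -⟩ := h.structure_facts
  have e : fsInd (θ : U → ℂ) = 1 := by
    simp only [fsInd, lin_apply_omega h hθ (hsq _), Finset.sum_const, Finset.card_univ, nsmul_eq_mul,
      mul_one, ← Nat.card_eq_fintype_card]
    exact inv_mul_cancel₀ (card_ne_zero_complex U)
  simp [fs, e]

/-- A nontrivial linear character of the kernel lies in exactly `|D| + 1` characters, all with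
indicator one and multiplicity one. -/
theorem lin_row (h : Ker U a b) {θ : IrrCharacter U} (hθ : charDegree (θ : U → ℂ) = 1)
    (hne : θ ≠ triv) :
    (∀ χ ∈ supp (G := G) θ, mult U χ θ = 1 ∧ fs χ = 1) ∧
      (supp (G := G) θ).card = Nat.card ↥(stabilizer G a ⊓ stabilizer G b) + 1 := by
  classical
  have h1 := gram_conj h.kernel h.zass hne 1
  simp only [tw_one, hθ, mul_one] at h1
  have h2 := fs_count h θ
  rw [fs_linear h hθ, hθ, Nat.cast_one, mul_one] at h2
  have h1' : ∑ χ : IrrCharacter G, (mult U χ θ : ℤ) * (mult U χ θ : ℤ) =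
      1 + (Nat.card ↥(stabilizer G a ⊓ stabilizer G b) : ℤ) := by exact_mod_cast h1
  have hnn : ∀ χ : IrrCharacter G,
      0 ≤ (mult U χ θ : ℤ) * mult U χ θ - fs χ * (mult U χ θ : ℤ) := by
    intro χ
    have := (fs_bounds χ).2
    rcases Nat.eq_zero_or_pos (mult U χ θ) with e | e
    · simp [e]
    · nlinarith
  have hz : ∀ χ : IrrCharacter G,
      (mult U χ θ : ℤ) * mult U χ θ - fs χ * (mult U χ θ : ℤ) = 0 := fun χ =>
    (Finset.sum_eq_zero_iff_of_nonneg fun χ _ => hnn χ).mp
      (by rw [Finset.sum_sub_distrib, h1', h2, sub_self]) χ (Finset.mem_univ χ)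
  have hrow : ∀ χ ∈ supp (G := G) θ, mult U χ θ = 1 ∧ fs χ = 1 := by
    intro χ hχ
    rw [mem_supp] at hχ
    have := hz χ
    rw [← sub_mul] at this
    have e := (mul_eq_zero.mp this).resolve_right (by exact_mod_cast hχ)
    have := (fs_bounds χ).2
    omega
  refine ⟨hrow, ?_⟩
  have e : ∑ χ : IrrCharacter G, mult U χ θ * mult U χ θ = ∑ χ ∈ supp θ, 1 := by
    rw [supp, Finset.sum_filter]
    refine Finset.sum_congr rfl fun χ _ => ?_
    split_ifs with hc
    · rw [(hrow χ (mem_supp.mpr hc)).1]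
    · push Not at hc; simp [hc]
  rw [e, Finset.sum_const, smul_eq_mul, mul_one] at h1
  omega

theorem sum_lin_mul (h : Ker U a b) {θ : IrrCharacter U} (hθ : charDegree (θ : U → ℂ) = 1)
    (hne : θ ≠ triv) (f : IrrCharacter G → ℕ) :
    ∑ χ : IrrCharacter G, mult U χ θ * f χ = ∑ χ ∈ supp θ, f χ := by
  classical
  rw [supp, Finset.sum_filter]
  refine Finset.sum_congr rfl fun χ _ => ?_
  split_ifs with hc
  · rw [((lin_row h hθ hne).1 χ (mem_supp.mpr hc)).1, one_mul]
  · push Not at hc; simp [hc]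

theorem inter_supp (h : Ker U a b) {θ θ' : IrrCharacter U} (hθ : charDegree (θ : U → ℂ) = 1)
    (hne : θ ≠ triv) (hθ' : charDegree (θ' : U → ℂ) = 1) (hne' : θ' ≠ triv)
    (hnc : ∀ d : ↥(stabilizer G a ⊓ stabilizer G b), tw h.kernel d θ' ≠ θ)
    [DecidableEq (IrrCharacter G)] :
    (supp (G := G) θ ∩ supp θ').card = Nat.card ↥(stabilizer G a ⊓ stabilizer G b) := by
  classical
  have h1 := gram_not_conj h.kernel h.zass hnc
  rw [sum_lin_mul h hθ hne, hθ, hθ', mul_one, mul_one] at h1
  rw [← h1, ← Finset.filter_mem_eq_inter, Finset.card_filter]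
  refine Finset.sum_congr rfl fun χ _ => ?_
  split_ifs with hc
  · exact (((lin_row h hθ' hne').1 χ hc).1).symm
  · rw [mem_supp] at hc; push Not at hc; exact hc.symm

/-- The characters of degree one of the kernel. -/
noncomputable def linChars (U : Subgroup G) [Fintype U] : Finset (IrrCharacter U) :=
  Finset.univ.filter fun θ => charDegree (θ : U → ℂ) = 1

omit [IsSimpleGroup G] [Finite Ω] [Fintype ↥(stabilizer G a ⊓ stabilizer G b)] in
theorem mem_linChars {θ : IrrCharacter U} : θ ∈ linChars U ↔ charDegree (θ : U → ℂ) = 1 := by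
  simp [linChars]

omit [Fintype ↥(stabilizer G a ⊓ stabilizer G b)] in
theorem card_linChars (h : Ker U a b) :
    (linChars U).card * (Nat.card ↥(stabilizer G a ⊓ stabilizer G b) + 1) = Nat.card U := by
  classical
  obtain ⟨n, -, hn, hO, -, hcomm, -, -⟩ := h.structure_facts
  rw [linChars, ← Fintype.card_subtype, ← Nat.card_eq_fintype_card, card_charDegree_one, hn, ← hO,
    hcomm, mul_comm, Subgroup.card_mul_index]

omit [Fintype ↥(stabilizer G a ⊓ stabilizer G b)] in
theorem sum_deg_sq_nonlin (h : Ker U a b) [DecidableEq (IrrCharacter U)] :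
    ∑ θ ∈ (linChars U)ᶜ, charDegree (θ : U → ℂ) ^ 2 + (linChars U).card = Nat.card U := by
  classical
  rw [← sum_charDegree_sq (G := U), ← Finset.sum_compl_add_sum (linChars U)]
  congr 1
  rw [Finset.card_eq_sum_ones]
  exact Finset.sum_congr rfl fun θ hθ => by rw [mem_linChars.mp hθ, one_pow]

omit [Fintype ↥(stabilizer G a ⊓ stabilizer G b)] in
/-- `∑ ν(θ) θ(1)` over the nonlinear characters of the kernel. -/
theorem sum_fs_nonlin (h : Ker U a b) [DecidableEq (IrrCharacter U)] :
    ∑ θ ∈ (linChars U)ᶜ, fs θ * (charDegree (θ : U → ℂ) : ℤ) + (linChars U).card =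
      (Nat.card ↥(stabilizer G a ⊓ stabilizer G b) : ℤ) + 1 := by
  classical
  rw [← Nat.cast_one (R := ℤ), ← Nat.cast_add, ← roots_kernel_one h, ← sum_fs_deg,
    ← Finset.sum_compl_add_sum (linChars U)]
  congr 1
  rw [Finset.card_eq_sum_ones, Nat.cast_sum]
  exact Finset.sum_congr rfl fun θ hθ => by
    rw [fs_linear h (mem_linChars.mp hθ), mem_linChars.mp hθ]; rfl

end Cfsg.Agent.Lib.SuzukiKernel
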